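import Cfsg.Agent.H188.Der.U35B
import Cfsg.Agent.H817.UThreeFiveMain

/-!
# S3499: the tight case `A₆`, `M₁₀ < U₃(5)`: facts on `PSU₃(5)` (helper358)

* `sd_inv_mem` : a group of order 720 with a normal subgroup `A₆` and semidihedral Sylow 2-subgroup has all involutions in
  the normal subgroup (proof of helper188);
* `cent_le` : centralisers of involutions of `PSU₃(5)` have order at most 240;
* `exists_cw` : the generators of a Sylow 2-subgroup.
-/

set_option autoImplicit false

namespace Cfsg.Agent.H358.EP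

open Cfsg Subgroup

section SD

open Cfsg.Agent.H188.Der Cfsg.Geo Cfsg.Agent.H439.Der Cfsg.Agent.H918 Module Cfsg.Agent.H322.Der

variable {G : Type*} [Group G] {c w : G}

/-- all involutions lie in the normal subgroup `A₆` -/
theorem sd_inv_mem [Finite G] (hG : Nat.card G = 720) (hc : orderOf c = 8) (hw : w * w = 1) (hcw : w * c * w⁻¹ = c ^ 3)
    {M0 : Subgroup G} (hn : M0.Normal) (i : M0 ≃* alternatingGroup (Fin 6)) : ∀ t : G, t * t = 1 → t ∈ M0 := by
  have h2f : Fact (Nat.Prime 2) := ⟨Nat.prime_two⟩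
  have hM0 : Nat.card M0 = 360 := by
    rw [Nat.card_congr i.toEquiv]
    have h1 := card_alt 6 (by norm_num)
    have h2 : Nat.factorial 6 = 720 := rfl
    rw [h2] at h1
    omega
  have hidx : M0.index = 2 := by
    have h1 := M0.card_mul_index
    rw [hG, hM0] at h1
    omega
  have h32 : ¬ 2 ^ (4 + 1) ∣ Nat.card G := by rw [hG]; norm_num
  obtain ⟨P, hP⟩ := exists_sylow_of_card (T := G) (p := 2) (U := sd hc hw hcw) (card_sd hc hw hcw) h32
  have hcM : c ∉ M0 := fun h => alt6_eight (i ⟨c, h⟩) (by rw [MulEquiv.orderOf_eq, Subgroup.orderOf_mk, hc])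
  have hc2 : c ^ 2 ∈ M0 := Subgroup.sq_mem_of_index_two hidx c
  have hwM : w ∈ M0 := by
    by_contra hwM
    obtain ⟨a, b, ha, hb, ha1, hb1, hab, hcomm⟩ := alt6_four
    set a' : G := ((i.symm a : M0) : G) with ha'
    set b' : G := ((i.symm b : M0) : G) with hb'
    have haa : a' * a' = 1 := by
      rw [ha', ← Subgroup.coe_mul, ← map_mul, ha, map_one]; rfl
    have hbb : b' * b' = 1 := by
      rw [hb', ← Subgroup.coe_mul, ← map_mul, hb, map_one]; rfl
    have haM : a' ∈ M0 := (i.symm a).2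
    have hbM : b' ∈ M0 := (i.symm b).2
    have ha'1 : a' ≠ 1 := by
      intro h
      apply ha1
      have h1 : i.symm a = 1 := Subtype.ext h
      rw [← i.apply_symm_apply a, h1, map_one]
    have hb'1 : b' ≠ 1 := by
      intro h
      apply hb1
      have h1 : i.symm b = 1 := Subtype.ext h
      rw [← i.apply_symm_apply b, h1, map_one]
    have hab' : a' ≠ b' := by
      intro h
      exact hab (i.symm.injective (Subtype.ext h))
    have hcomm' : a' * b' = b' * a' := by
      rw [ha', hb', ← Subgroup.coe_mul, ← map_mul, hcomm, map_mul, Subgroup.coe_mul]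
    have hV : IsPGroup 2 (zpowers a' ⊔ zpowers b' : Subgroup G) := by
      have hz : ∀ x : G, x * x = 1 → IsPGroup 2 (zpowers x) := by
        intro x hx
        rintro ⟨y, hy⟩
        obtain ⟨n, rfl⟩ := mem_zpowers_iff.1 hy
        refine ⟨1, Subtype.ext ?_⟩
        show (x ^ n) ^ 2 ^ 1 = 1
        rw [pow_one, pow_two, ← zpow_add, ← two_mul, zpow_mul, zpow_ofNat, pow_two, hx, one_zpow]
      refine IsPGroup.to_sup_of_normal_right' (hz a' haa) (hz b' hbb) ?_
      rw [zpowers_le]
      apply mem_normalizer_of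
      rw [hcomm', mul_inv_cancel_right]
      exact mem_zpowers b'
    obtain ⟨Q, hQ⟩ := hV.exists_le_sylow
    obtain ⟨g, hg⟩ := MulAction.exists_smul_eq G Q P
    have h1 : ∀ x ∈ (zpowers a' ⊔ zpowers b' : Subgroup G), g * x * g⁻¹ ∈ sd hc hw hcw := by
      intro x hx
      have h5 : g * x * g⁻¹ ∈ (P : Subgroup G) := by
        rw [← hg]
        exact ⟨x, hQ hx, rfl⟩
      rwa [hP] at h5
    have h2 : ∀ x ∈ (zpowers a' ⊔ zpowers b' : Subgroup G), x ∈ M0 → x * x = 1 → x ≠ 1 → g * x * g⁻¹ = c ^ 4 := by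
      intro x hx hxM hx2 hx1
      rcases sd_inv hc hw hcw (h1 x hx) (by
        calc g * x * g⁻¹ * (g * x * g⁻¹) = g * (x * x) * g⁻¹ := by group
          _ = 1 := by rw [hx2]; group) (fun h => hx1 (conj_eq_one_iff.1 h)) with h3 | ⟨j, h3⟩
      · exact h3
      · exfalso
        apply hwM
        have h4 : g * x * g⁻¹ ∈ M0 := hn.conj_mem x hxM g
        rw [h3] at h4
        exact (Subgroup.mul_mem_cancel_right M0 (M0.pow_mem hc2 j)).1 h4
    have h3 := h2 a' (le_sup_left (b := zpowers b') (mem_zpowers a')) haM haa ha'1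
    have h4 := h2 b' (le_sup_right (a := zpowers a') (mem_zpowers b')) hbM hbb hb'1
    rw [← h4] at h3
    exact hab' (mul_left_cancel (mul_right_cancel h3))
  intro t ht
  by_cases ht1 : t = 1
  · rw [ht1]; exact M0.one_mem
  obtain ⟨g, hg⟩ := exists_conj_mem (T := G) (p := 2) (U := sd hc hw hcw) (card_sd hc hw hcw) h32 (y := t) (n := 1)
    (by rw [pow_one, pow_two, ht])
  have h1 : g⁻¹ * t * g ∈ M0 := by
    rcases sd_inv hc hw hcw hg (by
      calc g⁻¹ * t * g * (g⁻¹ * t * g) = g⁻¹ * (t * t) * g := by group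
        _ = 1 := by rw [ht]; group) (by
        intro h
        apply ht1
        calc t = g * (g⁻¹ * t * g) * g⁻¹ := by group
          _ = 1 := by rw [h]; group) with h3 | ⟨j, h3⟩
    · rw [h3, show 4 = 2 * 2 by norm_num, pow_mul]
      exact M0.pow_mem hc2 2
    · rw [h3]
      exact M0.mul_mem hwM (M0.pow_mem hc2 j)
  have h2 := hn.conj_mem _ h1 g
  have h3 : g * (g⁻¹ * t * g) * g⁻¹ = t := by group
  rwa [h3] at h2

end SD

section Cent

open Cfsg.Agent.GTwoOdd.Core.HFiveB (vv emb negOne toC pow_three_of_center emb_injective exists_emb toC_surjective)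

variable {F : Type*} [Field F] [Fintype F] (hF : Fintype.card F = 5 ^ 2)
include hF

theorem cent_vv : Nat.card (centralizer ({vv (F := F) hF (by decide : Odd 5)} : Set (PSU 3 F 5))) ≤ 240 := by
  have hq : Odd 5 := by decide
  have hfin : Finite (Cfsg.GU 2 F 5) := Cfsg.Agent.LieClassical.GUOrder.finite_GU 2
  have hcc : Nat.card (Subgroup.center (Cfsg.SU 3 F 5)) = Nat.gcd 3 (5 + 1) :=
    Cfsg.Agent.S0280.card_center hF 3 (by norm_num)
  have h2 := Cfsg.Agent.S0277.result hF 2
  norm_num [Finset.prod_range_succ, Nat.even_iff] at h2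
  set C := Subgroup.centralizer ({vv (F := F) hF hq} : Set (PSU 3 F 5)) with hC
  have h3 : Nat.card C * Nat.card (toC (F := F) hF hq).ker = Nat.card (Cfsg.GU 2 F 5) := by
    rw [← Subgroup.card_mul_index (toC (F := F) hF hq).ker, Subgroup.index_ker,
      MonoidHom.range_eq_top.2 (toC_surjective hF hq), Subgroup.card_top, mul_comm]
  have hk : ∀ z : Subgroup.center (Cfsg.SU 3 F 5), ∃ A : Cfsg.GU 2 F 5, emb hF A = z := fun z =>
    exists_emb hF hq (Subgroup.mem_center_iff.1 z.2 _).symm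
  choose f hf using hk
  have hfk : ∀ z, f z ∈ (toC (F := F) hF hq).ker := by
    intro z
    rw [MonoidHom.mem_ker]
    apply Subtype.ext
    show (QuotientGroup.mk (emb hF (f z)) : PSU 3 F 5) = 1
    rw [QuotientGroup.eq_one_iff, hf]
    exact z.2
  have hKge : Nat.gcd 3 (5 + 1) ≤ Nat.card (toC (F := F) hF hq).ker := by
    rw [← hcc]
    refine Nat.card_le_card_of_injective (fun z => (⟨f z, hfk z⟩ : (toC (F := F) hF hq).ker)) ?_
    intro z z' h
    have h1 : f z = f z' := congrArg Subtype.val h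
    apply Subtype.ext
    rw [← hf, ← hf, h1]
  have h6 : Nat.gcd 3 (5 + 1) = 3 := by norm_num
  rw [h6] at hKge
  rw [h2] at h3
  have h7 : Nat.card C * 3 ≤ Nat.card C * Nat.card (toC (F := F) hF hq).ker := Nat.mul_le_mul_left _ hKge
  omega

/-- centralisers of involutions of `PSU₃(5)` have order at most 240 -/
theorem cent_le {t : PSU 3 F 5} (ht : orderOf t = 2) : Nat.card (centralizer ({t} : Set (PSU 3 F 5))) ≤ 240 := by
  obtain ⟨x, rfl⟩ := Cfsg.Agent.GTwoOdd.CentPSU.exists_conj_vv hF (by decide : Odd 5) ht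
  refine le_trans (le_of_eq ?_) (cent_vv hF)
  refine Nat.card_congr (Equiv.subtypeEquiv (MulAut.conj x⁻¹).toEquiv fun y => ?_)
  rw [mem_centralizer_singleton_iff, mem_centralizer_singleton_iff]
  show _ ↔ x⁻¹ * y * x⁻¹⁻¹ * _ = _ * (x⁻¹ * y * x⁻¹⁻¹)
  constructor
  · intro h
    have := congrArg (fun z => x⁻¹ * z * x) h
    simpa [mul_assoc] using this
  · intro h
    have := congrArg (fun z => x * z * x⁻¹) h
    simpa [mul_assoc] using this

/-- generators of a semidihedral Sylow 2-subgroup -/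
theorem exists_cw : ∃ c w : PSU 3 F 5, orderOf c = 8 ∧ w * w = 1 ∧ w * c * w⁻¹ = c ^ 3 := by
  have : Fact (Nat.Prime 5) := ⟨by norm_num⟩
  have hch : CharP F 5 := charP_of_card_eq_prime_pow (f := 2) (by rw [hF])
  obtain ⟨B, U, c, w, hro⟩ := Cfsg.Agent.H188.Der.exists_ro (p := 5) hF (by norm_num)
  have hN : (5 ^ 2 - 1) / Nat.gcd 3 (5 + 1) = 8 := by decide
  rw [hN] at hro
  refine ⟨c, w, hro.oc, hro.w2, ?_⟩
  rw [hro.wc, inv_eq_iff_mul_eq_one, ← pow_add]
  have h8 := pow_orderOf_eq_one c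
  rwa [hro.oc] at h8

end Cent

end Cfsg.Agent.H358.EP
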