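import Cfsg.Agent.H358.EP.A6A
import Cfsg.Agent.H475.EP.Orb
import Cfsg.Agent.H417.EP.Eleven
import Cfsg.Agent.H824.ProdLem
import Cfsg.Agent.H419.EP.Soc

/-!
# S3499: the tight case `A₆`, `M₁₀ < U₃(5)` (helper358)
-/

set_option autoImplicit false

namespace Cfsg.Agent.H358.EP

open Cfsg Subgroup Cfsg.Agent.H284 Cfsg.Agent.H419.EP
open Cfsg.Agent.H417.EP (Adm tr mem_tr Inv emb emb_mem emb_inj exists_emb base_inv base_tr adm_tr)

section out

/-- commutators are inner if the inner automorphisms have index 4 -/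
theorem out_comm_four {L : Type*} [Group L] [Finite L] (hc : ∀ z : L, (∀ x, z * x = x * z) → z = 1)
    (h : Nat.card (MulAut L) = 4 * Nat.card L) (α β : MulAut L) :
    α * β * α⁻¹ * β⁻¹ ∈ (MulAut.conj : L →* MulAut L).range := by
  have hinj : Function.Injective (MulAut.conj : L →* MulAut L) := by
    rw [injective_iff_map_eq_one]
    intro z hz
    apply hc
    intro x
    have h1 := DFunLike.congr_fun hz x
    rw [MulAut.conj_apply, MulAut.one_apply, mul_inv_eq_iff_eq_mul] at h1
    exact h1
  have h1 : Nat.card (MulAut.conj : L →* MulAut L).range = Nat.card L :=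
    (Nat.card_congr (MonoidHom.ofInjective hinj).toEquiv).symm
  have h2 : (MulAut.conj : L →* MulAut L).range.index = 4 := by
    have h3 := (MulAut.conj : L →* MulAut L).range.card_mul_index
    rw [h1, h, mul_comm 4] at h3
    exact Nat.eq_of_mul_eq_mul_left Nat.card_pos h3
  have hn : (MulAut.conj : L →* MulAut L).range.Normal := by
    constructor
    rintro _ ⟨l, rfl⟩ g
    exact ⟨g l, (aut_conj g l).symm⟩
  have : Fact (Nat.Prime 2) := ⟨Nat.prime_two⟩
  have h3 := (IsPGroup.isMulCommutative_of_card_eq_prime_sq (p := 2) (G := MulAut L ⧸ (MulAut.conj : L →* MulAut L).range)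
    (by rw [show Nat.card (MulAut L ⧸ (MulAut.conj : L →* MulAut L).range) = 4 from h2]; norm_num)).is_comm.comm
    (QuotientGroup.mk α) (QuotientGroup.mk β)
  rw [← QuotientGroup.eq_one_iff]
  rw [QuotientGroup.mk_mul, QuotientGroup.mk_mul, QuotientGroup.mk_mul, QuotientGroup.mk_inv, QuotientGroup.mk_inv, h3]
  group

end out

section count

variable {Q : Type*} [Group Q] [Finite Q] {A : Subgroup Q}

/-- fixed points of an involution -/
theorem fix_le_of {L : Type*} [Group L] [Finite L] {ι : L →* Q} {z : Q} (hz : orderOf z = 2) {c m : ℕ}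
    (hc : Nat.card (centralizer ({z} : Set Q)) ≤ c) (hm : Nat.card {l : L // orderOf l = 2} ≤ m)
    (hinj : Function.Injective ι) (hN : ∀ t ∈ A, orderOf t = 2 → ∃ l, ι l = t) :
    Nat.card {p : Q ⧸ A // z • p = p} * Nat.card A ≤ c * m := by
  have h1 := Cfsg.Agent.H475.EP.fx_elt A z
  have h2 : Cfsg.Agent.H475.EP.fx A (zpowers z) = Nat.card {p : Q ⧸ A // z • p = p} := by
    unfold Cfsg.Agent.H475.EP.fx
    refine Nat.card_congr (Equiv.subtypeEquivRight fun p => ⟨fun h => h z (mem_zpowers z), ?_⟩)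
    intro h d hd
    have h3 : zpowers z ≤ MulAction.stabilizer Q p := by
      rw [zpowers_le, MulAction.mem_stabilizer_iff]
      exact h
    exact MulAction.mem_stabilizer_iff.1 (h3 hd)
  rw [← h2, h1]
  refine Nat.mul_le_mul hc (le_trans ?_ hm)
  have hw : ∀ w : {w : Q // w ∈ A ∧ ∃ g, w = g⁻¹ * z * g}, ∃ l : L, ι l = w ∧ orderOf l = 2 := by
    rintro ⟨w, hw, g, rfl⟩
    have h3 : orderOf (g⁻¹ * z * g) = 2 := by
      have : orderOf (g⁻¹ * z * g⁻¹⁻¹) = orderOf z := Cfsg.Agent.H439.Der.orderOf_conj _ _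
      rwa [inv_inv, hz] at this
    obtain ⟨l, hl⟩ := hN _ hw h3
    refine ⟨l, hl, ?_⟩
    rw [← hl, orderOf_injective ι hinj] at h3
    exact h3
  choose f hf using hw
  refine Nat.card_le_card_of_injective (fun w => (⟨f w, (hf w).2⟩ : {l : L // orderOf l = 2})) ?_
  intro w w' e
  have e1 : f w = f w' := congrArg Subtype.val e
  apply Subtype.ext
  rw [← (hf w).1, ← (hf w').1, e1]

/-- the double count -/
theorem double_count {L : Type*} [Group L] [Finite L] {ι : L →* Q} (hA : ∀ l, ι l ∈ A) {c m f : ℕ}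
    (hm : Nat.card {l : L // orderOf l = 2} = m)
    (hf : ∀ l : L, orderOf l = 2 → Nat.card {p : Q ⧸ A // ι l • p = p} ≤ f)
    (hc : ∀ x, x ∉ A → c ≤ Nat.card {l : L // l ∈ tr ι A x ∧ orderOf l = 2}) :
    m + (A.index - 1) * c ≤ m * f := by
  classical
  have := Fintype.ofFinite (Q ⧸ A)
  have := Fintype.ofFinite L
  have hdc := Finset.sum_card_bipartiteAbove_eq_sum_card_bipartiteBelow
    (s := (Finset.univ : Finset (Q ⧸ A))) (t := (Finset.univ.filter (fun l : L => orderOf l = 2)))
    (fun p l => ι l • p = p)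
  have hS : (Finset.univ.filter (fun l : L => orderOf l = 2)).card = m := by
    rw [← hm, Nat.card_eq_fintype_card, Fintype.card_subtype]
  have hup : ∑ l ∈ Finset.univ.filter (fun l : L => orderOf l = 2),
      ((Finset.univ : Finset (Q ⧸ A)).bipartiteBelow (fun p l => ι l • p = p) l).card ≤ m * f := by
    rw [← hS, ← smul_eq_mul]
    refine Finset.sum_le_card_nsmul _ _ _ ?_
    intro l hl
    refine le_trans (le_of_eq ?_) (hf l (Finset.mem_filter.1 hl).2)
    rw [Nat.card_eq_fintype_card, Fintype.card_subtype]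
    rfl
  have hst : ∀ (x : Q) (t : L), ι t • ((x : Q) : Q ⧸ A) = ((x : Q) : Q ⧸ A) ↔ t ∈ tr ι A x := by
    intro x t
    rw [MulAction.Quotient.smul_coe, smul_eq_mul, eq_comm, QuotientGroup.eq, mem_tr, mul_assoc]
  have hab : ∀ p : Q ⧸ A, ((Finset.univ.filter (fun l : L => orderOf l = 2)).bipartiteAbove
      (fun p l => ι l • p = p) p).card = Nat.card {l : L // ι l • p = p ∧ orderOf l = 2} := by
    intro p
    rw [Nat.card_eq_fintype_card, Fintype.card_subtype]
    congr 1
    ext l
    simp only [Finset.mem_bipartiteAbove, Finset.mem_filter, Finset.mem_univ, true_and]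
    exact and_comm
  have hlow : m + (A.index - 1) * c ≤ ∑ p : Q ⧸ A,
      ((Finset.univ.filter (fun l : L => orderOf l = 2)).bipartiteAbove (fun p l => ι l • p = p) p).card := by
    simp only [hab]
    rw [← Finset.add_sum_erase _ _ (Finset.mem_univ ((1 : Q) : Q ⧸ A))]
    apply Nat.add_le_add
    · rw [← hm]
      refine le_of_eq (Nat.card_congr (Equiv.subtypeEquivRight fun l => ?_))
      rw [hst, mem_tr, inv_one, one_mul, mul_one]
      exact ⟨fun h => ⟨hA l, h⟩, fun h => h.2⟩
    · have hcard : A.index - 1 = (Finset.univ.erase ((1 : Q) : Q ⧸ A)).card := by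
        rw [Finset.card_erase_of_mem (Finset.mem_univ _), Finset.card_univ, ← Nat.card_eq_fintype_card]
        rfl
      rw [hcard, ← smul_eq_mul]
      refine Finset.card_nsmul_le_sum _ _ _ ?_
      intro p hp
      obtain ⟨x, rfl⟩ := QuotientGroup.mk_surjective p
      have hx : x ∉ A := by
        intro hx
        apply (Finset.mem_erase.1 hp).1
        show ((x : Q) : Q ⧸ A) = ((1 : Q) : Q ⧸ A)
        rw [eq_comm, QuotientGroup.eq, inv_one, one_mul]
        exact hx
      refine (hc x hx).trans (le_of_eq (Nat.card_congr (Equiv.subtypeEquivRight fun l => ?_)))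
      rw [← hst]
  rw [hdc] at hlow
  exact hlow.trans hup

end count

theorem card_inv_a6 : Nat.card {l : alternatingGroup (Fin 6) // orderOf l = 2} = 45 := by
  have h2 : ∀ g : alternatingGroup (Fin 6), orderOf g = 2 ↔ (g * g = 1 ∧ g ≠ 1) := by
    intro g
    have : Fact (Nat.Prime 2) := ⟨by norm_num⟩
    rw [orderOf_eq_prime_iff, pow_two]
  rw [Nat.card_congr (Equiv.subtypeEquivRight h2), Nat.card_eq_fintype_card]
  decide +kernel

/-- **The tight case `A₆`, `M₁₀ < U₃(5)`**, from the number of involutions of admissible subgroups of `A₆`. -/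
theorem a6_tight_of {Q : Type*} [Group Q] [Finite Q] {A : Subgroup Q} {Γ : Subgroup (MulAut Q)} (h : EPT A Γ)
    (hs : HasSoc A (alternatingGroup (Fin 6))) {F : Type*} [Field F] [Fintype F] (hF : Fintype.card F = 5 ^ 2)
    (e : Q ≃* PSU 3 F 5) (hQ : Nat.card Q = 126000)
    (H4 : ∀ K : Subgroup (alternatingGroup (Fin 6)), Adm K → 4 ≤ Nat.card {l : alternatingGroup (Fin 6) // l ∈ K ∧ orderOf l = 2}) :
    False := by
  have hsA : IsSimpleGroup (alternatingGroup (Fin 6)) := alternatingGroup.isSimpleGroup (by simp)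
  obtain ⟨g, hg⟩ := hs.exists_hom
  have hA1440 : Nat.card A ∣ 1440 := by
    rw [← Cfsg.Agent.H824.ProdLem.card_aut_a6]
    exact Subgroup.card_dvd_of_injective g hg
  have hA126 : Nat.card A ∣ 126000 := by rw [← hQ]; exact A.card_subgroup_dvd_card
  have hA360 := hs.card_dvd
  have h360 : Nat.card (alternatingGroup (Fin 6)) = 360 := by
    have h1 := Cfsg.Agent.H188.Der.card_alt 6 (by norm_num)
    have h2 : Nat.factorial 6 = 720 := rfl
    rw [h2] at h1
    omega
  rw [h360] at hA360
  obtain ⟨N, hNA, hN, hcent, ⟨i⟩⟩ := hs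
  have hcN : Nat.card N = 360 := by rw [Nat.card_congr i.toEquiv, h360]
  have hcases : Nat.card A = 360 ∨ Nat.card A = 720 := by
    obtain ⟨k, hk⟩ := hA360
    rw [hk] at hA1440 hA126
    have k1 : k ∣ 4 := Nat.dvd_of_mul_dvd_mul_left (by norm_num : 0 < 360) hA1440
    have k2 : k ∣ 350 := Nat.dvd_of_mul_dvd_mul_left (by norm_num : 0 < 360) hA126
    have k4 : k ∣ 2 := Nat.dvd_gcd k1 k2
    rcases (Nat.dvd_prime Nat.prime_two).1 k4 with rfl | rfl
    · left; rw [hk]
    · right; rw [hk]
  -- the involutions of `A`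
  have hinv : ∀ t ∈ A, orderOf t = 2 → ∃ l, emb i l = t := by
    intro t ht ht2
    have htt : t * t = 1 := by
      have := pow_orderOf_eq_one t
      rwa [ht2, pow_two] at this
    apply exists_emb
    rcases hcases with h1 | h1
    · have : N = A := Subgroup.eq_of_le_of_card_ge hNA (by rw [h1, hcN])
      rw [this]
      exact ht
    · obtain ⟨c, w, hc8, hw, hcw⟩ := exists_cw hF
      obtain ⟨y, hy1, hy2⟩ := Cfsg.Agent.H188.Der.sd_conj (G := Q) (M := A) (c := e.symm c) (w := e.symm w)
        (by rw [hQ]; norm_num) (by rw [h1]; norm_num) (by rw [MulEquiv.orderOf_eq]; exact hc8)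
        (by rw [← map_mul, hw, map_one]) (by rw [← map_mul, ← map_inv, ← map_mul, hcw, map_pow])
      have hn : (N.subgroupOf A).Normal := ⟨by
        intro n hn a
        exact hN a a.2 n hn⟩
      have h2 := sd_inv_mem (G := A) h1 (c := ⟨_, hy1⟩) (w := ⟨_, hy2⟩)
        (by rw [Subgroup.orderOf_mk, Cfsg.Agent.H439.Der.orderOf_conj, MulEquiv.orderOf_eq, hc8]) (Subtype.ext (by
          show y * e.symm w * y⁻¹ * (y * e.symm w * y⁻¹) = 1
          calc y * e.symm w * y⁻¹ * (y * e.symm w * y⁻¹) = y * (e.symm w * e.symm w) * y⁻¹ := by group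
            _ = 1 := by rw [← map_mul, hw, map_one]; group)) (Subtype.ext (by
          show y * e.symm w * y⁻¹ * (y * e.symm c * y⁻¹) * (y * e.symm w * y⁻¹)⁻¹ = (y * e.symm c * y⁻¹) ^ 3
          rw [conj_pow, ← map_pow, ← hcw, map_mul, map_mul, map_inv]
          group)) hn ((Subgroup.subgroupOfEquivOfLe hNA).trans i) ⟨t, ht⟩ (Subtype.ext htt)
      exact h2
  -- centralisers
  have hcz : ∀ z : Q, orderOf z = 2 → Nat.card (centralizer ({z} : Set Q)) ≤ 240 := by
    intro z hz
    refine le_trans (le_of_eq ?_) (cent_le hF (t := e z) (by rw [MulEquiv.orderOf_eq, hz]))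
    refine Nat.card_congr (Equiv.subtypeEquiv e.toEquiv fun y => ?_)
    rw [mem_centralizer_singleton_iff, mem_centralizer_singleton_iff]
    show _ ↔ e y * e z = e z * e y
    rw [← map_mul, ← map_mul, e.injective.eq_iff]
  have hz : ∀ z : alternatingGroup (Fin 6), (∀ x, z * x = x * z) → z = 1 := by
    intro z hz
    have h1 : z ∈ center (alternatingGroup (Fin 6)) := mem_center_iff.2 fun x => (hz x).symm
    rcases (inferInstance : (center (alternatingGroup (Fin 6))).Normal).eq_bot_or_eq_top with h2 | h2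
    · rw [h2, mem_bot] at h1
      exact h1
    · exfalso
      obtain ⟨a, b, hab⟩ : ∃ a b : alternatingGroup (Fin 6), a * b ≠ b * a := by decide +kernel
      apply hab
      have : a ∈ center (alternatingGroup (Fin 6)) := by rw [h2]; exact mem_top a
      exact (mem_center_iff.1 this b).symm
  have hI := base_inv h hNA hN i hcent
  have hna : ∃ a b : alternatingGroup (Fin 6), a * b ≠ b * a := by decide +kernel
  have hadm : ∀ x, x ∉ A → Adm (tr (emb i) A x) := fun x hx =>
    adm_tr h hI hx (base_tr h hNA hN hna i hcent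
      (out_comm_four hz (by rw [Cfsg.Agent.H824.ProdLem.card_aut_a6, h360])) hx)
  have hidx := A.card_mul_index
  rw [hQ] at hidx
  have key : ∀ f : ℕ, (∀ l : alternatingGroup (Fin 6), orderOf l = 2 → Nat.card {p : Q ⧸ A // emb i l • p = p} ≤ f) →
      45 + (A.index - 1) * 4 ≤ 45 * f := fun f hf =>
    double_count (fun l => hNA (emb_mem i l)) card_inv_a6 hf fun x hx => H4 _ (hadm x hx)
  have hfx : ∀ l : alternatingGroup (Fin 6), orderOf l = 2 →
      Nat.card {p : Q ⧸ A // emb i l • p = p} * Nat.card A ≤ 240 * 45 := fun l hl =>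
    fix_le_of (A := A) (ι := emb i) (z := emb i l) (by rw [orderOf_injective _ (emb_inj i), hl])
      (hcz _ (by rw [orderOf_injective _ (emb_inj i), hl])) card_inv_a6.le (emb_inj i) hinv
  rcases hcases with h1 | h1
  · rw [h1] at hidx hfx
    have h2 := key 30 (fun l hl => by
      have := hfx l hl
      omega)
    omega
  · rw [h1] at hidx hfx
    have h2 := key 15 (fun l hl => by
      have := hfx l hl
      omega)
    omega

end Cfsg.Agent.H358.EP
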