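import Cfsg.Agent.H528.EP.Comm

/-!
# S3499: the component lemma (helper358)

* `EPT.fac_or` : for `R ≤ A` invariant under `Γ_{xA}`: `R ≤ A^x` or `Γ = R Γ_{xA}`.
* `EPT.comp_lemma` : `L ≤ A` simple with commuting `Γ`-conjugates, `x ∉ A`; `L ∩ A^x ≠ 1`: the elements `l ∈ L` such that
  `l d ∈ A^x` for some `d ∈ C_A(L)` lie in `A^x`.
* `comm_or_eq` : two simple subnormal subgroups (of depth two) are equal or commute.
-/

set_option autoImplicit false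

namespace Cfsg.Agent.H358.EP

open Subgroup Cfsg.Agent.H284
open scoped commutatorElement

section Sub

variable {G : Type*} [Group G]

/-- Two perfect simple groups `L ⊴ D ⊴ A`, `K ⊴ E ⊴ A` are equal or commute. -/
theorem comm_or_eq {A L D K E : Subgroup G} (hLD : L ≤ D) (hDA : D ≤ A) (hKE : K ≤ E) (hEA : E ≤ A)
    (nD : ∀ a ∈ A, ∀ d ∈ D, a * d * a⁻¹ ∈ D) (nE : ∀ a ∈ A, ∀ d ∈ E, a * d * a⁻¹ ∈ E)
    (nL : ∀ a ∈ D, ∀ d ∈ L, a * d * a⁻¹ ∈ L) (nK : ∀ a ∈ E, ∀ d ∈ K, a * d * a⁻¹ ∈ K)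
    (sL : ∀ N ≤ L, (∀ l ∈ L, ∀ n ∈ N, l * n * l⁻¹ ∈ N) → N = ⊥ ∨ N = L)
    (sK : ∀ N ≤ K, (∀ l ∈ K, ∀ n ∈ N, l * n * l⁻¹ ∈ N) → N = ⊥ ∨ N = K)
    (pL : L ≤ ⁅L, L⁆) (pK : K ≤ ⁅K, K⁆) : L = K ∨ ∀ l ∈ L, ∀ k ∈ K, l * k = k * l := by
  have key : ∀ {L D E : Subgroup G}, L ≤ D → D ≤ A → E ≤ A → (∀ a ∈ A, ∀ d ∈ D, a * d * a⁻¹ ∈ D) →
      (∀ a ∈ A, ∀ d ∈ E, a * d * a⁻¹ ∈ E) → (∀ a ∈ D, ∀ d ∈ L, a * d * a⁻¹ ∈ L) → L ≤ ⁅L, L⁆ → L ⊓ E = ⊥ →
      ⁅L, E⁆ = ⊥ := by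
    intro L D E hLD hDA hEA nD nE nL pL hLE
    have h1 : ⁅L, E⁆ ≤ D ⊓ E := by
      rw [commutator_le]
      intro l hl e he
      refine ⟨?_, ?_⟩
      · rw [commutatorElement_def, mul_assoc, mul_assoc]
        refine D.mul_mem (hLD hl) ?_
        rw [← mul_assoc]
        exact nD e (hEA he) _ (D.inv_mem (hLD hl))
      · rw [commutatorElement_def]
        exact E.mul_mem (nE l (hDA (hLD hl)) e he) (E.inv_mem he)
    have h2 : ⁅D ⊓ E, L⁆ = ⊥ := by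
      rw [eq_bot_iff, ← hLE, commutator_le]
      intro y hy l hl
      refine ⟨?_, ?_⟩
      · rw [commutatorElement_def]
        exact L.mul_mem (nL y hy.1 l hl) (L.inv_mem hl)
      · rw [commutatorElement_def, mul_assoc, mul_assoc]
        refine E.mul_mem hy.2 ?_
        rw [← mul_assoc]
        exact nE l (hDA (hLD hl)) _ (E.inv_mem hy.2)
    have h3 : ⁅⁅L, E⁆, L⁆ = ⊥ := by
      rw [eq_bot_iff, ← h2]
      exact commutator_mono h1 le_rfl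
    have h4 : ⁅⁅E, L⁆, L⁆ = ⊥ := by rw [commutator_comm E L]; exact h3
    have h5 := commutator_commutator_eq_bot_of_rotate (H₁ := L) (H₂ := L) (H₃ := E) h3 h4
    rw [eq_bot_iff, ← h5]
    exact commutator_mono pL le_rfl
  rcases sL (L ⊓ E) inf_le_left (fun l hl n hn => ⟨L.mul_mem (L.mul_mem hl hn.1) (L.inv_mem hl),
    nE l (hDA (hLD hl)) n hn.2⟩) with h1 | h1
  · right
    intro l hl k hk
    have h2 := key hLD hDA hEA nD nE nL pL h1
    have h3 : ⁅l, k⁆ ∈ ⁅L, E⁆ := commutator_mem_commutator hl (hKE hk)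
    rw [h2, mem_bot, commutatorElement_eq_one_iff_mul_comm] at h3
    exact h3
  · rcases sK (K ⊓ D) inf_le_left (fun l hl n hn => ⟨K.mul_mem (K.mul_mem hl hn.1) (K.inv_mem hl),
      nD l (hEA (hKE hl)) n hn.2⟩) with h2 | h2
    · right
      intro l hl k hk
      have h3 := key hKE hEA hDA nE nD nK pK h2
      have h4 : ⁅k, l⁆ ∈ ⁅K, D⁆ := commutator_mem_commutator hk (hLD hl)
      rw [h3, mem_bot, commutatorElement_eq_one_iff_mul_comm] at h4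
      exact h4.symm
    · have hLE : L ≤ E := by rw [← h1]; exact inf_le_right
      have hKD : K ≤ D := by rw [← h2]; exact inf_le_right
      rcases sL (L ⊓ K) inf_le_left (fun l hl n hn => ⟨L.mul_mem (L.mul_mem hl hn.1) (L.inv_mem hl),
        nK l (hLE hl) n hn.2⟩) with h3 | h3
      · right
        intro l hl k hk
        have h4 : ⁅l, k⁆ ∈ L ⊓ K := by
          rw [commutatorElement_def]
          refine ⟨?_, K.mul_mem (nK l (hLE hl) k hk) (K.inv_mem hk)⟩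
          rw [mul_assoc, mul_assoc, ← mul_assoc k]
          exact L.mul_mem hl (nL k (hKD hk) _ (L.inv_mem hl))
        rw [h3, mem_bot, commutatorElement_eq_one_iff_mul_comm] at h4
        exact h4
      · have hLK : L ≤ K := by rw [← h3]; exact inf_le_right
        rcases sK (L ⊓ K) inf_le_right (fun l hl n hn => ⟨nL l (hKD hl) n hn.1,
          K.mul_mem (K.mul_mem hl hn.2) (K.inv_mem hl)⟩) with h4 | h4
        · right
          rw [h3] at h4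
          intro l hl k _
          rw [h4, mem_bot] at hl
          rw [hl, one_mul, mul_one]
        · left
          rw [← h3, h4]

end Sub

section Ept

variable {Q : Type*} [Group Q] {A : Subgroup Q} {Γ : Subgroup (MulAut Q)}

/-- `A = R (A ∩ A^x)` or `R ≤ A^x` for `R ≤ A` invariant under the stabiliser of `xA` -/
theorem fac_or (h : EPT A Γ) {R : Subgroup Q} (hR : R ≤ A) {x : Q} (hx : x ∉ A)
    (hRn : ∀ τ ∈ Γ, x⁻¹ * τ x ∈ A → ∀ k ∈ R, τ k ∈ R) :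
    (∀ r ∈ R, r ∈ cj x A) ∨ ∀ σ ∈ Γ, ∃ k ∈ R, ∃ τ ∈ Γ, x⁻¹ * τ x ∈ A ∧ σ = MulAut.conj k * τ := by
  let L : Subgroup (MulAut Q) :=
    { carrier := {σ | ∃ k ∈ R, ∃ τ ∈ Γ, x⁻¹ * τ x ∈ A ∧ σ = MulAut.conj k * τ}
      one_mem' := ⟨1, one_mem _, 1, one_mem _, by
        rw [MulAut.one_apply, inv_mul_cancel]; exact one_mem _, by rw [map_one, one_mul]⟩
      mul_mem' := by
        rintro σ₁ σ₂ ⟨k₁, hk₁, τ₁, hτ₁, hx₁, e₁⟩ ⟨k₂, hk₂, τ₂, hτ₂, hx₂, e₂⟩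
        refine ⟨k₁ * τ₁ k₂, mul_mem hk₁ (hRn _ hτ₁ hx₁ _ hk₂), τ₁ * τ₂, mul_mem hτ₁ hτ₂, ?_, ?_⟩
        · rw [MulAut.mul_apply]
          have e : x⁻¹ * τ₁ (τ₂ x) = (x⁻¹ * τ₁ x) * τ₁ (x⁻¹ * τ₂ x) := by
            rw [map_mul, map_inv]; group
          rw [e]
          exact A.mul_mem hx₁ ((h.inv _ hτ₁ _).2 hx₂)
        · rw [e₁, e₂, map_mul, ← aut_conj]
          group
      inv_mem' := by
        rintro σ ⟨k, hk, τ, hτ, hx₁, e⟩
        have hx2 : x⁻¹ * τ⁻¹ x ∈ A := by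
          have h3 := (h.inv _ (Γ.inv_mem hτ) _).2 (A.inv_mem hx₁)
          have e4 : τ⁻¹ (x⁻¹ * τ x)⁻¹ = x⁻¹ * τ⁻¹ x := by
            rw [mul_inv_rev, map_mul, map_inv, MulAut.inv_apply_self, inv_inv]
          rwa [e4] at h3
        refine ⟨τ⁻¹ k⁻¹, hRn _ (inv_mem hτ) hx2 _ (inv_mem hk), τ⁻¹, inv_mem hτ, hx2, ?_⟩
        rw [e, ← aut_conj, map_inv MulAut.conj k]
        group }
  have hLΓ : L ≤ Γ := by
    rintro σ ⟨k, hk, τ, hτ, _, rfl⟩
    exact mul_mem ((h.conj k).2 (hR hk)) hτ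
  have hKL : ∀ k ∈ R, MulAut.conj k ∈ L := fun k hk =>
    ⟨k, hk, 1, one_mem _, by
      rw [MulAut.one_apply, inv_mul_cancel]; exact one_mem _, by rw [mul_one]⟩
  rcases h.two x hx L hLΓ (fun σ hσ hσx => ⟨1, one_mem _, σ, hσ, hσx, by rw [map_one, one_mul]⟩)
    with h1 | h1
  · right
    intro σ hσ
    rw [← h1] at hσ
    exact hσ
  · left
    intro k hk
    exact (h.conj_stab (hR hk)).1 (h1 _ (hKL k hk))

/-- the projection of `A ∩ A^x` to the factor `K` -/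
def Rp (A : Subgroup Q) (x : Q) (K : Subgroup Q) : Subgroup Q where
  carrier := {r | r ∈ K ∧ ∃ c ∈ A, (∀ k ∈ K, c * k = k * c) ∧ r * c ∈ cj x A}
  one_mem' := ⟨one_mem _, 1, one_mem _, fun k _ => by rw [one_mul, mul_one], by rw [mul_one]; exact one_mem _⟩
  mul_mem' := by
    rintro a b ⟨ha, c, hc, hc1, hc2⟩ ⟨hb, d, hd, hd1, hd2⟩
    refine ⟨mul_mem ha hb, c * d, mul_mem hc hd, fun k hk => ?_, ?_⟩
    · rw [mul_assoc, hd1 k hk, ← mul_assoc, hc1 k hk, mul_assoc]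
    · have e : a * b * (c * d) = a * c * (b * d) := by
        rw [mul_assoc a c, ← mul_assoc c b d, hc1 b hb, mul_assoc a b, ← mul_assoc b c d]
      rw [e]
      exact mul_mem hc2 hd2
  inv_mem' := by
    rintro a ⟨ha, c, hc, hc1, hc2⟩
    refine ⟨inv_mem ha, c⁻¹, inv_mem hc, fun k hk => ?_, ?_⟩
    · rw [inv_mul_eq_iff_eq_mul, ← mul_assoc, hc1 k hk, mul_inv_cancel_right]
    · have e : a⁻¹ * c⁻¹ = (a * c)⁻¹ := by rw [← hc1 a ha, mul_inv_rev]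
      rw [e]
      exact inv_mem hc2

theorem mem_Rp {x : Q} {K : Subgroup Q} {r : Q} :
    r ∈ Rp A x K ↔ r ∈ K ∧ ∃ c ∈ A, (∀ k ∈ K, c * k = k * c) ∧ r * c ∈ cj x A := Iff.rfl

theorem Rp_le {x : Q} {K : Subgroup Q} : Rp A x K ≤ K := fun _ hr => hr.1

/-- **The component lemma.** -/
theorem comp_lemma (h : EPT A Γ) {L : Subgroup Q} (hLA : L ≤ A)
    (hcomm : ∀ σ ∈ Γ, L.map σ.toMonoidHom = L ∨ ∀ a ∈ L, ∀ b ∈ L, a * σ b = σ b * a)
    (hsim : ∀ N ≤ L, (∀ l ∈ L, ∀ n ∈ N, l * n * l⁻¹ ∈ N) → N = ⊥ ∨ N = L) {x : Q} (hx : x ∉ A) {c l d : Q}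
    (hc : c ∈ L) (hc1 : c ≠ 1) (hcx : c ∈ cj x A) (hl : l ∈ L) (hd : d ∈ A) (hdL : ∀ k ∈ L, d * k = k * d)
    (hld : l * d ∈ cj x A) : l ∈ cj x A := by
  -- the orbit of `L`
  let ι := {K : Subgroup Q // ∃ σ ∈ Γ, K = L.map σ.toMonoidHom}
  let o : ι := ⟨L, 1, one_mem _, by
    ext y
    constructor
    · intro hy
      exact ⟨y, hy, rfl⟩
    · rintro ⟨z, hz, rfl⟩
      exact hz⟩
  have hKA : ∀ K : ι, K.1 ≤ A := by
    rintro ⟨_, σ, hσ, rfl⟩ _ ⟨y, hy, rfl⟩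
    exact (h.inv σ hσ y).2 (hLA hy)
  have hpair : ∀ i j : ι, i ≠ j → ∀ a ∈ i.1, ∀ b ∈ j.1, a * b = b * a := by
    rintro ⟨_, σ, hσ, rfl⟩ ⟨_, τ, hτ, rfl⟩ hij _ ⟨a, ha, rfl⟩ _ ⟨b, hb, rfl⟩
    rcases hcomm (σ⁻¹ * τ) (mul_mem (inv_mem hσ) hτ) with h1 | h1
    · exfalso
      apply hij
      apply Subtype.ext
      show L.map σ.toMonoidHom = L.map τ.toMonoidHom
      conv_lhs => rw [← h1]
      rw [Subgroup.map_map]
      congr 1
      ext y
      show σ ((σ⁻¹ * τ) y) = τ y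
      rw [MulAut.mul_apply, MulAut.apply_inv_self]
    · have h2 := congrArg σ (h1 a ha b hb)
      rw [map_mul, map_mul, MulAut.mul_apply, MulAut.apply_inv_self] at h2
      exact h2
  have hmove : ∀ σ ∈ Γ, ∀ i : ι, ∃ j : ι, j.1 = i.1.map σ.toMonoidHom := by
    rintro σ hσ ⟨_, τ, hτ, rfl⟩
    refine ⟨⟨_, σ * τ, mul_mem hσ hτ, rfl⟩, ?_⟩
    show L.map (σ * τ).toMonoidHom = (L.map τ.toMonoidHom).map σ.toMonoidHom
    rw [Subgroup.map_map]
    rfl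
  set R : Subgroup Q := ⨆ i : ι, Rp A x i.1 with hRdef
  have hRN : R ≤ ⨆ i : ι, i.1 := iSup_mono fun i => Rp_le
  have hRA : R ≤ A := iSup_le fun i => Rp_le.trans (hKA i)
  have hL0 : L ≠ ⊥ := by
    rintro rfl
    exact hc1 (mem_bot.1 hc)
  -- invariance
  have hRp : ∀ τ ∈ Γ, x⁻¹ * τ x ∈ A → ∀ K : Subgroup Q, K ≤ A → ∀ r ∈ Rp A x K, τ r ∈ Rp A x (K.map τ.toMonoidHom) := by
    rintro τ hτ hτx K hK r ⟨hr, e, he, he1, he2⟩
    refine ⟨⟨r, hr, rfl⟩, τ e, (h.inv τ hτ e).2 he, ?_, ?_⟩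
    · rintro _ ⟨k, hk, rfl⟩
      show τ e * τ k = τ k * τ e
      rw [← map_mul, he1 k hk, map_mul]
    · rw [← map_mul]
      exact (mem_inf.1 (h.stab_M0 hτ hτx ⟨mul_mem (hK hr) he, he2⟩)).2
  have hRn : ∀ τ ∈ Γ, x⁻¹ * τ x ∈ A → ∀ k ∈ R, τ k ∈ R := by
    intro τ hτ hτx
    have h1 : R ≤ R.comap τ.toMonoidHom := by
      refine iSup_le fun i y hy => ?_
      obtain ⟨j, hj⟩ := hmove τ hτ i
      have h2 := hRp τ hτ hτx i.1 (hKA i) y hy
      rw [← hj] at h2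
      exact (le_iSup (fun i : ι => Rp A x i.1) j) h2
    exact fun k hk => h1 hk
  have hNK : ∀ r ∈ R, ∀ i : ι, ∀ z ∈ i.1, r * z * r⁻¹ ∈ i.1 := fun r hr i z hz =>
    EPT.t3_normalizes hpair (hRN hr) i hz
  have hRK : ∀ r ∈ R, ∀ i : ι, ∀ z ∈ Rp A x i.1, r * z * r⁻¹ ∈ Rp A x i.1 := fun r hr i z hz =>
    EPT.t3_normalizes (L := fun i : ι => Rp A x i.1)
      (fun i j hij a ha b hb => hpair i j hij a (Rp_le ha) b (Rp_le hb)) hr i hz
  rcases fac_or h hRA hx hRn with h1 | h1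
  · apply h1
    exact (le_iSup (fun i : ι => Rp A x i.1) o) ⟨hl, d, hd, hdL, hld⟩
  · exfalso
    -- the decomposition of `σ` and its effect on `L`
    have hfix : ∀ σ ∈ Γ, ∀ i j : ι, (∀ y ∈ i.1, σ y ∈ j.1) → ∀ k ∈ R, ∀ τ : MulAut Q, σ = MulAut.conj k * τ →
        ∀ y ∈ i.1, τ y ∈ j.1 := by
      intro σ hσ i j hij k hk τ e y hy
      have h2 := hij y hy
      rw [e, MulAut.mul_apply, MulAut.conj_apply] at h2
      have h3 := hNK k⁻¹ (inv_mem hk) j _ h2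
      have h4 : k⁻¹ * (k * τ y * k⁻¹) * k⁻¹⁻¹ = τ y := by group
      rwa [h4] at h3
    have hLc : Rp A x L = L := by
      rcases hsim (Rp A x L) Rp_le (fun g hg r hr => by
        obtain ⟨k, hk, τ, hτ, hτx, e⟩ := h1 _ ((h.conj g).2 (hLA hg))
        have h2 : ∀ y ∈ L, τ y ∈ L := hfix _ ((h.conj g).2 (hLA hg)) o o (fun y hy => by
          rw [MulAut.conj_apply]
          exact L.mul_mem (L.mul_mem hg hy) (L.inv_mem hg)) k hk τ e
        have h2' : ∀ y ∈ L, τ⁻¹ y ∈ L := by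
          intro y hy
          have h3 : (τ⁻¹ : MulAut Q) = MulAut.conj (τ⁻¹ k) * (MulAut.conj g)⁻¹ := by
            rw [e, ← aut_conj]
            group
          have h4 : ((MulAut.conj g)⁻¹ : MulAut Q) y ∈ L := by
            rw [← map_inv, MulAut.conj_apply]
            exact L.mul_mem (L.mul_mem (L.inv_mem hg) hy) (L.inv_mem (L.inv_mem hg))
          have hτ' : x⁻¹ * τ⁻¹ x ∈ A := by
            have h3 := (h.inv _ (Γ.inv_mem hτ) _).2 (A.inv_mem hτx)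
            have e4 : τ⁻¹ (x⁻¹ * τ x)⁻¹ = x⁻¹ * τ⁻¹ x := by
              rw [mul_inv_rev, map_mul, map_inv, MulAut.inv_apply_self, inv_inv]
            rwa [e4] at h3
          have h5 : τ⁻¹ k ∈ R := hRn _ (inv_mem hτ) hτ' k hk
          rw [h3, MulAut.mul_apply, MulAut.conj_apply]
          exact hNK _ h5 o _ h4
        have h3 : L.map τ.toMonoidHom = L := by
          apply le_antisymm
          · rintro _ ⟨y, hy, rfl⟩
            exact h2 y hy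
          · intro y hy
            exact ⟨τ⁻¹ y, h2' y hy, MulAut.apply_inv_self Q τ y⟩
        have h4 := hRp τ hτ hτx L hLA r hr
        rw [h3] at h4
        have h5 : g * r * g⁻¹ = k * τ r * k⁻¹ := by
          have := congrArg (fun σ : MulAut Q => σ r) e
          simpa only [MulAut.conj_apply, MulAut.mul_apply] using this
        rw [h5]
        exact hRK k hk o _ h4) with h2 | h2
      · exfalso
        apply hc1
        have h3 : c ∈ Rp A x L := ⟨hc, 1, one_mem _, fun k _ => by rw [one_mul, mul_one], by rwa [mul_one]⟩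
        rw [h2, mem_bot] at h3
        exact h3
      · exact h2
    have hLx : L ≤ cj x A := by
      rcases hsim (L ⊓ cj x A) inf_le_left (fun g hg r hr => by
        refine ⟨L.mul_mem (L.mul_mem hg hr.1) (L.inv_mem hg), ?_⟩
        rw [← hLc] at hg
        obtain ⟨_, e, he, he1, he2⟩ := hg
        have h2 : g * r * g⁻¹ = (g * e) * r * (g * e)⁻¹ := by
          rw [mul_assoc g e r, he1 r hr.1, mul_inv_rev]
          group
        rw [h2]
        exact (cj x A).mul_mem ((cj x A).mul_mem he2 hr.2) ((cj x A).inv_mem he2)) with h2 | h2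
      · exfalso
        apply hc1
        have h3 : c ∈ L ⊓ cj x A := ⟨hc, hcx⟩
        rw [h2, mem_bot] at h3
        exact h3
      · rw [← h2]
        exact inf_le_right
    apply hx
    refine h.t3_mem (L := fun i : ι => i.1) hKA hpair ?_ (i := o) hL0 ?_ hLx
    · intro σ hσ i
      obtain ⟨j, hj⟩ := hmove σ hσ i
      refine ⟨j, fun y hy => ?_⟩
      rw [hj]
      exact ⟨y, hy, rfl⟩
    · rintro ⟨_, σ, hσ, rfl⟩
      exact ⟨σ, hσ, le_rfl⟩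

end Ept

end Cfsg.Agent.H358.EP
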