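import Cfsg.Agent.H918.TransvWreath
import Cfsg.Agent.H919.AschWreathForm
import Cfsg.Agent.LieClassical.SLGen

/-!
# Transvections and slots of a tensor power (helper358)
-/

set_option autoImplicit false

namespace Cfsg.Agent.H358.EP

open Cfsg Cfsg.Agent.H919
open scoped MatrixGroups Matrix

section Tv

variable {ι : Type} [Fintype ι] [DecidableEq ι] {F : Type*} [Field F]

/-- the transvection `1 + v φ` -/
def tv (v φ : ι → F) (h : φ ⬝ᵥ v = 0) : GL ι F where
  val := 1 + Matrix.vecMulVec v φ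
  inv := 1 - Matrix.vecMulVec v φ
  val_inv := by
    have : Matrix.vecMulVec v φ * Matrix.vecMulVec v φ = 0 := by
      rw [Matrix.vecMulVec_mul_vecMulVec, h, zero_smul]
      ext i j
      simp [Matrix.vecMulVec_apply]
    rw [mul_sub, mul_one, add_mul, one_mul, this, add_zero, add_sub_cancel_right]
  inv_val := by
    have : Matrix.vecMulVec v φ * Matrix.vecMulVec v φ = 0 := by
      rw [Matrix.vecMulVec_mul_vecMulVec, h, zero_smul]
      ext i j
      simp [Matrix.vecMulVec_apply]
    rw [mul_add, mul_one, sub_mul, one_mul, this, sub_zero, sub_add_cancel]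

theorem tv_val (v φ : ι → F) (h : φ ⬝ᵥ v = 0) : (tv v φ h : Matrix ι ι F) = 1 + Matrix.vecMulVec v φ := rfl

theorem det_tv (v φ : ι → F) (h : φ ⬝ᵥ v = 0) : Matrix.GeneralLinearGroup.det (tv v φ h) = 1 := by
  ext
  rw [Matrix.GeneralLinearGroup.val_det_apply, tv_val, Matrix.vecMulVec_eq Unit,
    Matrix.det_one_add_replicateCol_mul_replicateRow, h]
  simp

/-- `g` fixes `v` and `φ`: it commutes with the transvection -/
theorem tv_comm {v φ : ι → F} (h : φ ⬝ᵥ v = 0) {g : GL ι F} (hv : (g : Matrix ι ι F) *ᵥ v = v)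
    (hφ : φ ᵥ* (g : Matrix ι ι F) = φ) : g * tv v φ h = tv v φ h * g := by
  ext1
  rw [Units.val_mul, Units.val_mul, tv_val, mul_add, mul_one, add_mul, one_mul, Matrix.mul_vecMulVec,
    Matrix.vecMulVec_mul, hv, hφ]

/-- the commutator of a transvection with an element fixing `φ` but not `v` is of rank one -/
theorem tv_rankOne {v φ : ι → F} (h : φ ⬝ᵥ v = 0) (hφ0 : φ ≠ 0) {g : GL ι F} (hv : (g : Matrix ι ι F) *ᵥ v ≠ v)
    (hφ : φ ᵥ* (g : Matrix ι ι F) = φ) : H918.IsRankOneElt (g⁻¹ * ((tv v φ h)⁻¹ * g * tv v φ h)) := by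
  refine ⟨v - ((g⁻¹ : GL ι F) : Matrix ι ι F) *ᵥ v, φ, ?_, ?_, ?_⟩
  · intro h0
    apply hv
    rw [sub_eq_zero] at h0
    have h1 := congrArg (fun y => (g : Matrix ι ι F) *ᵥ y) h0
    simp only [Matrix.mulVec_mulVec] at h1
    rw [← Units.val_mul, mul_inv_cancel, Units.val_one, Matrix.one_mulVec] at h1
    exact h1
  · exact hφ0
  · have e1 : (((tv v φ h)⁻¹ : GL ι F) : Matrix ι ι F) = 1 - Matrix.vecMulVec v φ := rfl
    have e2 : ((g⁻¹ : GL ι F) : Matrix ι ι F) * (g : Matrix ι ι F) = 1 := by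
      rw [← Units.val_mul, inv_mul_cancel, Units.val_one]
    have e0 : Matrix.vecMulVec v φ * Matrix.vecMulVec v φ = 0 := by
      rw [Matrix.vecMulVec_mul_vecMulVec, h, zero_smul]
      ext i j
      simp [Matrix.vecMulVec_apply]
    rw [Units.val_mul, Units.val_mul, Units.val_mul, e1, tv_val, sub_mul, one_mul, Matrix.vecMulVec_mul, hφ,
      mul_add, mul_one, sub_mul, e0, sub_zero, Matrix.mul_vecMulVec, mul_add, mul_sub, e2, Matrix.mul_vecMulVec,
      Matrix.mul_vecMulVec, Matrix.mulVec_mulVec, e2, Matrix.one_mulVec, Matrix.sub_vecMulVec]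
    abel

theorem tv_isRankOne {v φ : ι → F} (h : φ ⬝ᵥ v = 0) (hφ0 : φ ≠ 0) (hv0 : v ≠ 0) : H918.IsRankOneElt (tv v φ h) :=
  ⟨v, φ, hv0, hφ0, rfl⟩

end Tv

section Slot

variable {F : Type*} [Field F] {k t : ℕ}

/-- the tensor product of invertible matrices -/
def pureHom : (Fin t → GL (Fin k) F) →* GL (Fin t → Fin k) F where
  toFun := pureGL
  map_one' := by
    ext1
    rw [pureGL_val]
    simp only [Pi.one_apply, Units.val_one]
    exact pureMat_one
  map_mul' a b := by
    ext1
    rw [Units.val_mul, pureGL_val, pureGL_val, pureGL_val, pureMat_mul]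
    rfl

theorem pureHom_apply (b : Fin t → GL (Fin k) F) : pureHom b = pureGL b := rfl

theorem pureHom_mem (b : Fin t → GL (Fin k) F) : pureHom b ∈ Geo.tensorWreathStandard k t F := pureGL_mem b

/-- an element of the slot `i` -/
def slot (i : Fin t) : GL (Fin k) F →* GL (Fin t → Fin k) F := pureHom.comp (MonoidHom.mulSingle (fun _ => GL (Fin k) F) i)

theorem slot_eq (i : Fin t) (g : GL (Fin k) F) : slot i g = pureHom (Pi.mulSingle i g) := rfl

theorem slot_val (i : Fin t) (g : GL (Fin k) F) :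
    (slot i g : Matrix (Fin t → Fin k) (Fin t → Fin k) F) = slotMat i (g : Matrix (Fin k) (Fin k) F) := by
  rw [slot_eq, pureHom_apply, pureGL_val, slotMat]
  congr 1
  funext j
  by_cases h : j = i
  · subst h
    rw [Pi.mulSingle_eq_same, Function.update_self]
  · rw [Pi.mulSingle_eq_of_ne h, Function.update_of_ne h, Units.val_one]

theorem slot_comm {i j : Fin t} (hij : i ≠ j) (a b : GL (Fin k) F) : slot i a * slot j b = slot j b * slot i a := by
  rw [slot_eq, slot_eq, ← map_mul, ← map_mul, (Pi.mulSingle_commute (f := fun _ : Fin t => GL (Fin k) F) hij a b).eq]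

theorem pureHom_conj_slot (b : Fin t → GL (Fin k) F) (i : Fin t) (g : GL (Fin k) F) :
    pureHom b * slot i g * (pureHom b)⁻¹ = slot i (b i * g * (b i)⁻¹) := by
  rw [slot_eq, slot_eq, ← map_inv, ← map_mul, ← map_mul]
  congr 1
  funext j
  by_cases h : j = i
  · subst h
    rw [Pi.mulSingle_eq_same, Pi.mul_apply, Pi.mul_apply, Pi.mulSingle_eq_same, Pi.inv_apply]
  · rw [Pi.mulSingle_eq_of_ne h, Pi.mul_apply, Pi.mul_apply, Pi.mulSingle_eq_of_ne h, mul_one, Pi.inv_apply,
      mul_inv_cancel]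

/-- the pure tensors are normal in the wreath group -/
theorem conj_pure {g : GL (Fin t → Fin k) F} (hg : g ∈ Geo.tensorWreathStandard k t F) (b : Fin t → GL (Fin k) F) :
    ∃ c : Fin t → GL (Fin k) F, g * pureHom b * g⁻¹ = pureHom c := by
  obtain ⟨gs, σ, hgs⟩ := H918.isWreathElt_of_mem hg
  refine ⟨fun i => gs i * b (σ i) * (gs i)⁻¹, ?_⟩
  rw [mul_inv_eq_iff_eq_mul]
  ext x z
  have h1 := H918.wreath_mul_apply (g := g) (h := pureHom b) (τ := 1) hgs (fun _ _ => rfl) x z
  have h2 := H918.wreath_mul_apply (g := pureHom (fun i => gs i * b (σ i) * (gs i)⁻¹)) (h := g) (σ := 1)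
    (fun _ _ => rfl) hgs x z
  rw [h1, h2]
  refine Finset.prod_congr rfl fun i _ => ?_
  rw [Equiv.Perm.one_apply, Equiv.Perm.one_apply, inv_mul_cancel_right]

/-- the determinant of an element of a slot -/
theorem det_slot (hk : 3 ≤ k) (i : Fin t) (s : Matrix.SpecialLinearGroup (Fin k) F) :
    Matrix.GeneralLinearGroup.det (slot i (Matrix.SpecialLinearGroup.toGL s)) = 1 := by
  let f : Matrix.SpecialLinearGroup (Fin k) F →* Fˣ :=
    (Matrix.GeneralLinearGroup.det.comp (slot i)).comp Matrix.SpecialLinearGroup.toGL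
  have h1 : commutator (Matrix.SpecialLinearGroup (Fin k) F) ≤ f.ker := Abelianization.commutator_subset_ker f
  rw [LieClassical.SLGen.commutator_eq_top (by simpa using hk)] at h1
  exact h1 (Subgroup.mem_top s)

/-- the action of a transvection of a slot on the basis -/
theorem slot_tr_mulVec (i : Fin t) {p q : Fin k} (hpq : p ≠ q) (a : F) (x : Fin t → Fin k) :
    (slot i (Matrix.SpecialLinearGroup.toGL (Matrix.SpecialLinearGroup.transvection hpq a)) :
      Matrix (Fin t → Fin k) (Fin t → Fin k) F) *ᵥ Pi.single x 1 =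
      Pi.single x 1 + if x i = q then a • Pi.single (Function.update x i p) 1 else 0 := by
  rw [slot_val]
  have e1 : ((Matrix.SpecialLinearGroup.toGL (Matrix.SpecialLinearGroup.transvection hpq a) : GL (Fin k) F) :
      Matrix (Fin k) (Fin k) F) = 1 + Matrix.single p q a := rfl
  rw [e1, slotMat_add, slotMat_one, Matrix.add_mulVec, Matrix.one_mulVec]
  congr 1
  funext y
  rw [Matrix.mulVec_single_one, Matrix.col_apply, slotMat_apply_eq, Matrix.single_apply]
  by_cases h1 : x i = q
  · rw [if_pos h1, Pi.smul_apply, smul_eq_mul]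
    by_cases h2 : y = Function.update x i p
    · subst h2
      rw [Pi.single_eq_same, mul_one, Function.update_self, if_pos rfl, if_pos ⟨rfl, h1.symm⟩]
    · rw [Pi.single_eq_of_ne h2, mul_zero]
      by_cases h3 : y = Function.update x i (y i)
      · rw [if_pos h3, if_neg]
        rintro ⟨h4, _⟩
        apply h2
        rw [h3, ← h4]
      · rw [if_neg h3]
  · rw [if_neg h1]
    by_cases h3 : y = Function.update x i (y i)
    · rw [if_pos h3, if_neg (fun h4 => h1 h4.2.symm)]
      rfl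
    · rw [if_neg h3]
      rfl

/-- the action of a transvection of a slot on the dual basis -/
theorem slot_tr_vecMul (i : Fin t) {p q : Fin k} (hpq : p ≠ q) (a : F) (x : Fin t → Fin k) (hx : x i ≠ p) :
    Pi.single x 1 ᵥ* (slot i (Matrix.SpecialLinearGroup.toGL (Matrix.SpecialLinearGroup.transvection hpq a)) :
      Matrix (Fin t → Fin k) (Fin t → Fin k) F) = Pi.single x 1 := by
  rw [slot_val]
  have e1 : ((Matrix.SpecialLinearGroup.toGL (Matrix.SpecialLinearGroup.transvection hpq a) : GL (Fin k) F) :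
      Matrix (Fin k) (Fin k) F) = 1 + Matrix.single p q a := rfl
  rw [e1, slotMat_add, slotMat_one, Matrix.vecMul_add, Matrix.vecMul_one, add_eq_left]
  funext y
  rw [Matrix.single_one_vecMul, Matrix.row_apply, slotMat_apply_eq, Matrix.single_apply]
  split_ifs with h1 h2
  · exact absurd h2.1.symm hx
  · rfl
  · rfl

/-- scalars in a slot -/
theorem slot_scalar (i : Fin t) {g : GL (Fin k) F} (hg : g ∈ Geo.scalars (Fin k) F) :
    slot i g ∈ Geo.scalars (Fin t → Fin k) F := by
  rw [Geo.mem_scalars_iff] at hg ⊢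
  obtain ⟨c, hc⟩ := hg
  refine ⟨c, ?_⟩
  rw [slot_val, hc, slotMat_smul, slotMat_one]

open Matrix.SpecialLinearGroup (toGL transvection) in
/-- **The elements**: a vector `v` and a covector `φ` of the tensor power, `c`, `l` in the slot `j0`, `d` in the slot `j1`
such that `c` and `l d` fix `v` and `φ`, and `l` fixes `φ` but not `v`. -/
theorem exists_elts (F : Type*) [Field F] {k t : ℕ} (hk : 3 ≤ k) (ht : 2 ≤ t) :
    ∃ (j0 j1 : Fin t) (v φ : (Fin t → Fin k) → F) (_ : φ ⬝ᵥ v = 0) (c l d : Matrix.SpecialLinearGroup (Fin k) F),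
      j0 ≠ j1 ∧ φ ≠ 0 ∧ v ≠ 0 ∧ c ∉ Subgroup.center (Matrix.SpecialLinearGroup (Fin k) F) ∧
      (slot j0 (toGL c)).val *ᵥ v = v ∧ φ ᵥ* (slot j0 (toGL c)).val = φ ∧
      (slot j0 (toGL l)).val *ᵥ v ≠ v ∧ φ ᵥ* (slot j0 (toGL l)).val = φ ∧
      (slot j0 (toGL l) * slot j1 (toGL d)).val *ᵥ v = v ∧ φ ᵥ* (slot j0 (toGL l) * slot j1 (toGL d)).val = φ := by
  let i0 : Fin k := ⟨0, by omega⟩
  let i1 : Fin k := ⟨1, by omega⟩
  let i2 : Fin k := ⟨2, by omega⟩
  let j0 : Fin t := ⟨0, by omega⟩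
  let j1 : Fin t := ⟨1, by omega⟩
  have h01 : i0 ≠ i1 := by simp [i0, i1]
  have h02 : i0 ≠ i2 := by simp [i0, i2]
  have h12 : i1 ≠ i2 := by simp [i1, i2]
  have hj : j0 ≠ j1 := by simp [j0, j1]
  let a1 : Fin t → Fin k := fun _ => i0
  let a2 : Fin t → Fin k := Function.update (Function.update a1 j0 i1) j1 i1
  let a3 : Fin t → Fin k := Function.update (Function.update a1 j0 i2) j1 i2
  let b : Fin t → Fin k := Function.update a1 j1 i1
  have a2j0 : a2 j0 = i1 := by simp [a2, Function.update_of_ne hj]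
  have a2j1 : a2 j1 = i1 := by simp [a2]
  have a3j0 : a3 j0 = i2 := by simp [a3, Function.update_of_ne hj]
  have a3j1 : a3 j1 = i2 := by simp [a3]
  have bj0 : b j0 = i0 := by simp [b, Function.update_of_ne hj, a1]
  have e1 : Function.update a2 j0 i0 = b := by
    simp only [a2, b]
    rw [Function.update_comm hj.symm, Function.update_idem]
    congr 1
    exact Function.update_eq_self j0 a1
  have h31 : a3 ≠ a1 := fun e => h02 (by rw [← a3j0, e])
  have h32 : a3 ≠ a2 := fun e => h12 (by rw [← a3j0, e, a2j0])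
  have h12' : a1 ≠ a2 := fun e => h01 (by rw [← a2j0, ← e])
  let v : (Fin t → Fin k) → F := Pi.single a1 1 + Pi.single a2 1
  let φ : (Fin t → Fin k) → F := Pi.single a3 1
  have hb1 : b ≠ a1 := fun e => h01 (by
    have h1 : b j1 = i1 := by simp [b]
    rw [e] at h1
    exact h1)
  refine ⟨j0, j1, v, φ, ?_, transvection h02 1, transvection h01 1, transvection h01.symm (-1), hj, ?_, ?_, ?_, ?_, ?_,
    ?_, ?_, ?_, ?_⟩
  · show Pi.single a3 1 ⬝ᵥ (Pi.single a1 1 + Pi.single a2 1) = (0 : F)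
    rw [single_one_dotProduct, Pi.add_apply, Pi.single_eq_of_ne h31, Pi.single_eq_of_ne h32, add_zero]
  · intro h
    have := congrFun h a3
    rw [show φ a3 = 1 from Pi.single_eq_same _ _] at this
    exact one_ne_zero this
  · intro h
    have := congrFun h a1
    rw [show v a1 = 1 by
      show (Pi.single a1 1 + Pi.single a2 1 : (Fin t → Fin k) → F) a1 = 1
      rw [Pi.add_apply, Pi.single_eq_same, Pi.single_eq_of_ne h12', add_zero]] at this
    exact one_ne_zero this
  · rw [Matrix.SpecialLinearGroup.transvection_mem_center_iff]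
    exact one_ne_zero
  · show _ *ᵥ (Pi.single a1 1 + Pi.single a2 1) = Pi.single a1 1 + Pi.single a2 1
    rw [Matrix.mulVec_add, slot_tr_mulVec, slot_tr_mulVec, if_neg h02, if_neg (by rw [a2j0]; exact h12), add_zero,
      add_zero]
  · exact slot_tr_vecMul j0 h02 1 a3 (by rw [a3j0]; exact h02.symm)
  · show _ *ᵥ (Pi.single a1 1 + Pi.single a2 1) ≠ Pi.single a1 1 + Pi.single a2 1
    rw [Matrix.mulVec_add, slot_tr_mulVec, slot_tr_mulVec, if_neg h01, if_pos a2j0, add_zero, e1, ← add_assoc]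
    intro h
    have := congrFun h b
    rw [Pi.add_apply, add_eq_left, Pi.smul_apply, Pi.single_eq_same, smul_eq_mul, mul_one] at this
    exact one_ne_zero this
  · exact slot_tr_vecMul j0 h01 1 a3 (by rw [a3j0]; exact h02.symm)
  · show _ *ᵥ (Pi.single a1 1 + Pi.single a2 1) = Pi.single a1 1 + Pi.single a2 1
    rw [Units.val_mul, ← Matrix.mulVec_mulVec, Matrix.mulVec_add, slot_tr_mulVec, slot_tr_mulVec, if_pos rfl,
      if_neg (by rw [a2j1]; exact h01.symm), add_zero, Matrix.mulVec_add, Matrix.mulVec_add, Matrix.mulVec_smul]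
    rw [slot_tr_mulVec, slot_tr_mulVec, slot_tr_mulVec, if_neg h01, if_pos a2j0, if_neg (by
      show b j0 ≠ i1
      rw [bj0]; exact h01), e1]
    show Pi.single a1 1 + 0 + (-1 : F) • (Pi.single b 1 + 0) + (Pi.single a2 1 + (1 : F) • Pi.single b 1) = _
    rw [add_zero, add_zero, neg_one_smul, one_smul]
    abel
  · show Pi.single a3 1 ᵥ* _ = Pi.single a3 1
    rw [Units.val_mul, ← Matrix.vecMul_vecMul, slot_tr_vecMul j0 h01 1 a3 (by rw [a3j0]; exact h02.symm),
      slot_tr_vecMul j1 h01.symm (-1) a3 (by rw [a3j1]; exact h12.symm)]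

end Slot

end Cfsg.Agent.H358.EP
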