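import Cfsg.Agent.H358.EP.CompL
import Cfsg.Agent.H358.EP.TvSlot
import Cfsg.Agent.H419.EP.Iface
import Cfsg.Agent.H321.Ker.AlgY

/-!
# S3499, linear groups, class 7 (helper358)
-/

set_option autoImplicit false

namespace Cfsg.Agent.H358.EP

open Subgroup Cfsg.Agent.H284 Cfsg.Agent.H419.EP
open Cfsg.Agent.H919 (frameGL frameMat frameGL_val frameMat_injective mem_tensorWreathSubgroup_iff)
open scoped commutatorElement MatrixGroups Matrix

section Pull

variable {Q : Type*} [Group Q] {ι κ : Type} [Fintype ι] [DecidableEq ι] [Fintype κ] [DecidableEq κ] {F : Type*}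
  [Field F] {S : Subgroup (GL ι F)}

/-- a model transported along an isomorphism of the linear groups -/
def pull (m : Model Q S) (f : GL κ F ≃* GL ι F) {S' : Subgroup (GL κ F)} (hS : ∀ g, f g ∈ S ↔ g ∈ S')
    (hf : ∀ g, f g ∈ Geo.scalars ι F ↔ g ∈ Geo.scalars κ F) : Model Q S' where
  π := m.π.comp ((f.toMonoidHom.comp S'.subtype).codRestrict S fun s => (hS s).2 s.2)
  surj := by
    intro q
    obtain ⟨s, rfl⟩ := m.surj q
    refine ⟨⟨f.symm s, (hS _).1 (by rw [MulEquiv.apply_symm_apply]; exact s.2)⟩, ?_⟩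
    show m.π ⟨f (f.symm s), _⟩ = m.π s
    congr 1
    apply Subtype.ext
    exact f.apply_symm_apply s
  ker := by
    intro s
    rw [← hf s]
    exact m.ker ⟨f s, (hS s).2 s.2⟩

theorem mem_hat_pull (m : Model Q S) (f : GL κ F ≃* GL ι F) {S' : Subgroup (GL κ F)} (hS : ∀ g, f g ∈ S ↔ g ∈ S')
    (hf : ∀ g, f g ∈ Geo.scalars ι F ↔ g ∈ Geo.scalars κ F) {A : Subgroup Q} (g : GL κ F) :
    g ∈ (pull m f hS hf).hat A ↔ f g ∈ m.hat A := by
  rw [Model.mem_hat, Model.mem_hat]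
  constructor
  · rintro ⟨hg, h⟩
    exact ⟨(hS g).2 hg, h⟩
  · rintro ⟨hg, h⟩
    exact ⟨(hS g).1 hg, h⟩

theorem det_frameGL {k t : ℕ} (e : ι ≃ (Fin t → Fin k)) (P : GL ι F) (g : GL (Fin t → Fin k) F) :
    Matrix.GeneralLinearGroup.det (frameGL e P g) = Matrix.GeneralLinearGroup.det g := by
  show Matrix.GeneralLinearGroup.det (P * Geo.glReindex e.symm g * P⁻¹) = _
  rw [map_mul, map_mul, map_inv, mul_comm (Matrix.GeneralLinearGroup.det P), mul_inv_cancel_right]
  ext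
  rw [Matrix.GeneralLinearGroup.val_det_apply, Matrix.GeneralLinearGroup.val_det_apply]
  exact Matrix.det_reindexAlgEquiv F F e.symm _

theorem frameGL_scalars {k t : ℕ} (e : ι ≃ (Fin t → Fin k)) (P : GL ι F) (g : GL (Fin t → Fin k) F) :
    frameGL e P g ∈ Geo.scalars ι F ↔ g ∈ Geo.scalars (Fin t → Fin k) F := by
  rw [Geo.mem_scalars_iff, Geo.mem_scalars_iff]
  refine exists_congr fun c => ?_
  rw [frameGL_val]
  have e1 : frameMat e P ((c : F) • 1) = (c : F) • (1 : Matrix ι ι F) := by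
    rw [frameMat, map_smul, map_one, mul_smul_comm, mul_one, smul_mul_assoc, ← Units.val_mul, mul_inv_cancel,
      Units.val_one]
  rw [← e1, (frameMat_injective e P).eq_iff]

end Pull

section Rng

variable {F : Type*} [Field F] {k : ℕ} {Q : Type*} [Group Q]

/-- the image of `SL_k(F)`, `k ≥ 3`, modulo scalars is simple -/
theorem range_simple (hk : 3 ≤ k) (ψ : Matrix.SpecialLinearGroup (Fin k) F →* Q)
    (hz : ∀ z ∈ center (Matrix.SpecialLinearGroup (Fin k) F), ψ z = 1) (N : Subgroup Q) (hN : N ≤ ψ.range)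
    (hNn : ∀ l ∈ ψ.range, ∀ n ∈ N, l * n * l⁻¹ ∈ N) : N = ⊥ ∨ N = ψ.range := by
  have : NeZero k := ⟨by omega⟩
  have hn : (N.comap ψ).Normal := by
    refine ⟨fun n hn g => ?_⟩
    rw [mem_comap, map_mul, map_mul, map_inv]
    exact hNn _ ⟨g, rfl⟩ _ hn
  by_cases hq : ∃ g, QuotientGroup.mk' (N.comap ψ) g ≠ 1
  · left
    have h1 := H321.Ker.ker_le_center hk hq
    rw [QuotientGroup.ker_mk'] at h1
    rw [eq_bot_iff_forall]
    intro n hn
    obtain ⟨g, rfl⟩ := hN hn
    exact hz g (h1 hn)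
  · right
    push Not at hq
    refine le_antisymm hN ?_
    rintro _ ⟨g, rfl⟩
    have h1 := hq g
    rw [QuotientGroup.mk'_apply, QuotientGroup.eq_one_iff] at h1
    exact h1

theorem range_perfect (hk : 3 ≤ k) (ψ : Matrix.SpecialLinearGroup (Fin k) F →* Q) :
    ψ.range ≤ ⁅ψ.range, ψ.range⁆ := by
  rw [MonoidHom.range_eq_map, ← map_commutator]
  apply map_mono
  have h1 := LieClassical.SLGen.commutator_eq_top (ι := Fin k) (F := F) (by simpa using hk)
  rw [commutator_def] at h1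
  rw [h1]

end Rng

section Std

variable {Q : Type*} [Group Q] {A : Subgroup Q} {Γ : Subgroup (MulAut Q)}

open Matrix.SpecialLinearGroup (toGL transvection)

theorem slC7_std (h : EPT A Γ) {k t : ℕ} (hk : 3 ≤ k) (ht : 2 ≤ t) {F : Type*} [Field F]
    (m : Model Q (Geo.specialLinear (Fin t → Fin k) F)) (hA : m.hat A ≤ Geo.tensorWreathStandard k t F) : False := by
  have : NeZero k := ⟨by omega⟩
  obtain ⟨j0, j1, v, φ, hvφ, c, l, d, hj, hφ0, hv0, hcc, hc1, hc2, hl1, hl2, hd1, hd2⟩ := exists_elts F hk ht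
  let S := Geo.specialLinear (Fin t → Fin k) F
  set z : GL (Fin t → Fin k) F := tv v φ hvφ with hz
  have hzS : z ∈ S := det_tv v φ hvφ
  have hzM : z ∉ Geo.tensorWreathStandard k t F :=
    (tv_isRankOne hvφ hφ0 hv0).not_mem_tensorWreathStandard hk ht
  have hhat : m.hat A = Geo.tensorWreathStandard k t F ⊓ S :=
    H918.eq_inf_of_maximal (m.isMaximalIn h.max) hA fun hle => hzM (hle hzS)
  have hmemA : ∀ s : S, m.π s ∈ A ↔ (s : GL (Fin t → Fin k) F) ∈ Geo.tensorWreathStandard k t F := by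
    intro s
    rw [← m.mem_hat_iff, hhat, mem_inf]
    exact and_iff_left s.2
  -- the slots
  let η : Fin t → Matrix.SpecialLinearGroup (Fin k) F →* S := fun i =>
    ((slot i).comp toGL).codRestrict S fun s => det_slot hk i s
  have hη : ∀ i s, ((η i s : S) : GL (Fin t → Fin k) F) = slot i (toGL s) := fun _ _ => rfl
  have hηA : ∀ i s, m.π (η i s) ∈ A := fun i s => (hmemA _).2 (pureHom_mem _)
  let ψ : Matrix.SpecialLinearGroup (Fin k) F →* Q := m.π.comp (η j0)
  have hψz : ∀ y ∈ center (Matrix.SpecialLinearGroup (Fin k) F), ψ y = 1 := by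
    intro y hy
    show m.π (η j0 y) = 1
    rw [m.ker, hη]
    apply slot_scalar
    rw [Matrix.SpecialLinearGroup.mem_center_iff] at hy
    obtain ⟨r, hr, hr2⟩ := hy
    rw [Geo.mem_scalars_iff]
    have hr0 : r ≠ 0 := by
      rintro rfl
      rw [Fintype.card_fin, zero_pow (by omega)] at hr
      exact zero_ne_one hr
    refine ⟨Units.mk0 r hr0, ?_⟩
    show (y : Matrix (Fin k) (Fin k) F) = _
    rw [← hr2, Matrix.scalar_apply, Units.val_mk0, Matrix.smul_one_eq_diagonal]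
  set L : Subgroup Q := ψ.range with hL
  have hLA : L ≤ A := by
    rintro _ ⟨s, rfl⟩
    exact hηA j0 s
  -- the pure tensors
  let D : Subgroup Q := ((pureHom (F := F) (k := k) (t := t)).range.subgroupOf S).map m.π
  have hDA : D ≤ A := by
    rintro _ ⟨s, ⟨b, hb⟩, rfl⟩
    rw [hmemA]
    have hb' : pureHom b = (s : GL (Fin t → Fin k) F) := hb
    rw [← hb']
    exact pureHom_mem b
  have hLD : L ≤ D := by
    rintro _ ⟨s, rfl⟩
    exact ⟨η j0 s, ⟨Pi.mulSingle j0 (toGL s), rfl⟩, rfl⟩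
  have nD : ∀ a ∈ A, ∀ y ∈ D, a * y * a⁻¹ ∈ D := by
    rintro a ha _ ⟨s, ⟨b, hb⟩, rfl⟩
    obtain ⟨g, rfl⟩ := m.surj a
    rw [hmemA] at ha
    have hb' : pureHom b = (s : GL (Fin t → Fin k) F) := hb
    obtain ⟨b', hb2⟩ := conj_pure ha b
    refine ⟨g * s * g⁻¹, ⟨b', ?_⟩, by rw [map_mul, map_mul, map_inv]⟩
    show pureHom b' = (g : GL (Fin t → Fin k) F) * s * (g : GL (Fin t → Fin k) F)⁻¹
    rw [← hb', ← hb2]
  have nL : ∀ a ∈ D, ∀ y ∈ L, a * y * a⁻¹ ∈ L := by
    rintro _ ⟨s, ⟨b, hb⟩, rfl⟩ _ ⟨y, rfl⟩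
    have hb' : pureHom b = (s : GL (Fin t → Fin k) F) := hb
    let y' : Matrix.SpecialLinearGroup (Fin k) F := ⟨((b j0 * toGL y * (b j0)⁻¹ : GL (Fin k) F) : Matrix _ _ F), by
      have h1 : Matrix.GeneralLinearGroup.det (b j0 * toGL y * (b j0)⁻¹) = 1 := by
        rw [map_mul, map_mul, map_inv, mul_comm (Matrix.GeneralLinearGroup.det (b j0)), mul_inv_cancel_right]
        ext
        exact y.2
      have h2 := congrArg Units.val h1
      rw [Matrix.GeneralLinearGroup.val_det_apply] at h2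
      exact h2⟩
    have hy' : toGL y' = b j0 * toGL y * (b j0)⁻¹ := by
      ext1
      rfl
    refine ⟨y', ?_⟩
    show m.π (η j0 y') = m.π s * m.π (η j0 y) * (m.π s)⁻¹
    rw [← map_inv, ← map_mul, ← map_mul]
    congr 1
    apply Subtype.ext
    show slot j0 (toGL y') = (s : GL (Fin t → Fin k) F) * slot j0 (toGL y) * (s : GL (Fin t → Fin k) F)⁻¹
    rw [hy', ← hb', pureHom_conj_slot]
  have hsim := range_simple hk ψ hψz
  have hperf := range_perfect hk ψ
  rw [← hL] at hsim hperf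
  have hcomm : ∀ σ ∈ Γ, L.map σ.toMonoidHom = L ∨ ∀ a ∈ L, ∀ b ∈ L, a * σ b = σ b * a := by
    intro σ hσ
    have hσA : ∀ a ∈ A, ∃ a' ∈ A, σ a' = a := fun a ha =>
      ⟨σ⁻¹ a, (h.inv _ (inv_mem hσ) a).2 ha, MulAut.apply_inv_self Q σ a⟩
    rcases comm_or_eq (A := A) (L := L) (D := D) (K := L.map σ.toMonoidHom) (E := D.map σ.toMonoidHom) hLD hDA
      (map_mono hLD) (by
        rintro _ ⟨y, hy, rfl⟩
        exact (h.inv σ hσ y).2 (hDA hy)) nD (by
        rintro a ha _ ⟨y, hy, rfl⟩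
        obtain ⟨a', ha', rfl⟩ := hσA a ha
        exact ⟨a' * y * a'⁻¹, nD a' ha' y hy, by
          show σ (a' * y * a'⁻¹) = σ a' * σ y * (σ a')⁻¹
          rw [map_mul, map_mul, map_inv]⟩) nL (by
        rintro _ ⟨a, ha, rfl⟩ _ ⟨y, hy, rfl⟩
        exact ⟨a * y * a⁻¹, nL a ha y hy, by
          show σ (a * y * a⁻¹) = σ a * σ y * (σ a)⁻¹
          rw [map_mul, map_mul, map_inv]⟩) hsim (by
        intro N hN hNn
        have h1 := hsim (N.comap σ.toMonoidHom) (by
          intro y hy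
          obtain ⟨y', hy', e⟩ := hN hy
          have : y' = y := σ.injective e
          rwa [← this]) (by
          intro a ha n hn
          show σ (a * n * a⁻¹) ∈ N
          rw [map_mul, map_mul, map_inv]
          exact hNn _ ⟨a, ha, rfl⟩ _ hn)
        have h2 : (N.comap σ.toMonoidHom).map σ.toMonoidHom = N :=
          map_comap_eq_self_of_surjective σ.surjective N
        rcases h1 with h1 | h1
        · left
          rw [← h2, h1, Subgroup.map_bot]
        · right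
          rw [← h2, h1]) hperf (by
        rw [← map_commutator]
        exact map_mono hperf) with h1 | h1
    · left
      exact h1.symm
    · right
      intro a ha b hb
      exact h1 a ha _ ⟨b, hb, rfl⟩
  -- the point
  set x : Q := m.π ⟨z, hzS⟩ with hx
  have hxA : x ∉ A := fun h1 => hzM ((hmemA _).1 h1)
  -- `l` does not fix the point
  have hlx : ψ l ∉ cj x A := by
    intro h1
    rw [mem_cj] at h1
    have h2 : (ψ l)⁻¹ * (x⁻¹ * ψ l * x) ∈ A := A.mul_mem (A.inv_mem (hηA j0 l)) h1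
    have h3 : (ψ l)⁻¹ * (x⁻¹ * ψ l * x) = m.π ((η j0 l)⁻¹ * ((⟨z, hzS⟩ : S)⁻¹ * η j0 l * ⟨z, hzS⟩)) := by
      rw [map_mul, map_mul, map_mul, map_inv, map_inv]
      rfl
    rw [h3, hmemA] at h2
    exact (tv_rankOne hvφ hφ0 hl1 hl2).not_mem_tensorWreathStandard hk ht h2
  have hcomx : ∀ g : S, (g : GL (Fin t → Fin k) F) * z = z * (g : GL (Fin t → Fin k) F) → m.π g ∈ A →
      m.π g ∈ cj x A := by
    intro g hg hgA
    rw [mem_cj]
    have h1 : x⁻¹ * m.π g * x = m.π g := by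
      rw [mul_assoc, inv_mul_eq_iff_eq_mul, hx, ← map_mul, ← map_mul]
      congr 1
      exact Subtype.ext hg
    rw [h1]
    exact hgA
  apply hlx
  refine comp_lemma h hLA hcomm hsim hxA (c := ψ c) (d := m.π (η j1 d)) ⟨c, rfl⟩ ?_ ?_ ⟨l, rfl⟩ (hηA j1 d) ?_ ?_
  · intro h1
    apply hcc
    apply H321.Ker.ker_le_center hk (ψ := ψ) ⟨l, fun h2 => hlx (by rw [h2]; exact one_mem _)⟩
    exact h1
  · exact hcomx (η j0 c) (tv_comm hvφ hc1 hc2) (hηA j0 c)
  · rintro _ ⟨y, rfl⟩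
    show m.π (η j1 d) * m.π (η j0 y) = m.π (η j0 y) * m.π (η j1 d)
    rw [← map_mul, ← map_mul]
    congr 1
    apply Subtype.ext
    exact slot_comm hj.symm _ _
  · have h1 := hcomx (η j0 l * η j1 d) (tv_comm hvφ hd1 hd2) (by
      rw [map_mul]
      exact A.mul_mem (hηA j0 l) (hηA j1 d))
    rw [map_mul] at h1
    exact h1

end Std

/-- **S3499-III-SL-C7** -/
theorem slC7 {Q : Type*} [Group Q] {A : Subgroup Q} {Γ : Subgroup (MulAut Q)} (h : EPT A Γ) {ι : Type} [Fintype ι]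
    [DecidableEq ι] {F : Type*} [Field F] (m : Model Q (Geo.specialLinear ι F)) {k t : ℕ} (hk : 3 ≤ k) (ht : 2 ≤ t)
    (e : ι ≃ (Fin t → Fin k)) (P : GL ι F) (hA : m.hat A ≤ Geo.tensorWreathSubgroup k t e P) : False := by
  let m' : Model Q (Geo.specialLinear (Fin t → Fin k) F) := pull m (frameGL e P)
    (fun g => by
      show Matrix.GeneralLinearGroup.det (frameGL e P g) = 1 ↔ Matrix.GeneralLinearGroup.det g = 1
      rw [det_frameGL]) (frameGL_scalars e P)
  refine slC7_std h hk ht m' ?_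
  intro g hg
  have h1 : frameGL e P g ∈ m.hat A := (mem_hat_pull m _ _ _ g).1 hg
  obtain ⟨g', hg', e1⟩ := (mem_tensorWreathSubgroup_iff e P _).1 (hA h1)
  rwa [(frameGL e P).injective e1] at hg'

end Cfsg.Agent.H358.EP
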