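import Cfsg.Agent.S5779
import Cfsg.Agent.S0255
import Cfsg.Agent.S0280
import Cfsg.Agent.H419.EP.Soc
import Cfsg.Agent.H419.EP.Targets
import Cfsg.Agent.H117.EP.ModelPSL
import Cfsg.Agent.H895.SLT.ResCard

/-!
# S3499, layer IV, the row `PSU₃(q)`, residual class (helper358)

`row`: from S5779, the models and index bounds for the socles `L₂(7)`, `A₆`, `A₇`.
-/

set_option autoImplicit false

namespace Cfsg.Agent.H358.EP

open Cfsg Subgroup Cfsg.Agent.H284 Cfsg.Agent.H419.EP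
open scoped MatrixGroups

/-- two models of the same matrix group are isomorphic -/
theorem model_unique {Q Q' : Type*} [Group Q] [Group Q'] {ι : Type} [Fintype ι] [DecidableEq ι] {F : Type*} [Field F]
    {S : Subgroup (GL ι F)} (m : Model Q S) (m' : Model Q' S) : Nonempty (Q ≃* Q') := by
  have hk : m.π.ker = m'.π.ker := by
    ext s
    rw [MonoidHom.mem_ker, MonoidHom.mem_ker, m.ker, m'.ker]
  exact ⟨(QuotientGroup.quotientKerEquivOfSurjective m.π m.surj).symm.trans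
    ((QuotientGroup.quotientMulEquivOfEq hk).trans (QuotientGroup.quotientKerEquivOfSurjective m'.π m'.surj))⟩

/-- `gcd(3, q + 1) |PSU₃(q)| = q³ (q² - 1) (q³ + 1)` -/
theorem card_psu3 {F : Type*} [Field F] [Fintype F] {q : ℕ} (hF : Fintype.card F = q ^ 2) :
    Nat.gcd 3 (q + 1) * Nat.card (Cfsg.PSU 3 F q) = q ^ 3 * ((q ^ 2 - 1) * (q ^ 3 + 1)) := by
  have h := Cfsg.Agent.S0280.result hF 3 (by norm_num)
  rw [Finset.prod_range_succ, Finset.prod_range_succ, Finset.prod_range_one] at h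
  rw [if_pos (by decide), if_neg (by decide), if_pos (by decide)] at h
  norm_num at h
  apply Nat.eq_of_mul_eq_mul_left (show 0 < q + 1 by omega)
  calc (q + 1) * (Nat.gcd 3 (q + 1) * Nat.card (Cfsg.PSU 3 F q))
      = Nat.gcd 3 (q + 1) * ((q + 1) * Nat.card (Cfsg.PSU 3 F q)) := by ring
    _ = _ := h
    _ = _ := by ring

theorem card_psu3_three {F : Type*} [Field F] [Fintype F] (hF : Fintype.card F = 3 ^ 2) :
    Nat.card (Cfsg.PSU 3 F 3) = 6048 := by
  have h := card_psu3 hF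
  norm_num at h
  exact h

theorem card_psu3_five {F : Type*} [Field F] [Fintype F] (hF : Fintype.card F = 5 ^ 2) :
    Nat.card (Cfsg.PSU 3 F 5) = 126000 := by
  have h := card_psu3 hF
  norm_num at h
  omega

theorem card_psu3_ge {F : Type*} [Field F] [Fintype F] {q : ℕ} (hF : Fintype.card F = q ^ 2) (hq : 11 ≤ q) :
    70915680 ≤ Nat.card (Cfsg.PSU 3 F q) := by
  have h := card_psu3 hF
  have h1 : 11 ^ 3 * ((11 ^ 2 - 1) * (11 ^ 3 + 1)) ≤ q ^ 3 * ((q ^ 2 - 1) * (q ^ 3 + 1)) := by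
    refine Nat.mul_le_mul (Nat.pow_le_pow_left hq 3) (Nat.mul_le_mul ?_ ?_)
    · exact Nat.sub_le_sub_right (Nat.pow_le_pow_left hq 2) 1
    · exact Nat.succ_le_succ (Nat.pow_le_pow_left hq 3)
  have h2 : Nat.gcd 3 (q + 1) ≤ 3 := Nat.le_of_dvd (by norm_num) (Nat.gcd_dvd_left _ _)
  have h3 : Nat.gcd 3 (q + 1) * Nat.card (Cfsg.PSU 3 F q) ≤ 3 * Nat.card (Cfsg.PSU 3 F q) :=
    Nat.mul_le_mul_right _ h2
  rw [h] at h3
  norm_num at h1
  omega

/-- the index bound from the socle -/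
theorem index_ge {Q : Type*} [Group Q] [Finite Q] {A : Subgroup Q} {L : Type*} [Group L] [Finite L] (h : HasSoc A L)
    {c : ℕ} (hL : Nat.card (MulAut L) ≤ c) : Nat.card Q ≤ c * A.index := by
  rw [← A.card_mul_index]
  exact Nat.mul_le_mul_right _ (h.card_le.trans hL)

/-- `|Aut L₂(7)| ≤ 336` -/
theorem card_aut_l27 : Nat.card (MulAut (Matrix.ProjectiveSpecialLinearGroup (Fin 3) (ZMod 2))) ≤ 336 :=
  Nat.le_of_dvd (by norm_num) Cfsg.Agent.H895.SLT.card_aut_l

/-- the isomorphism `L₃(2) ≅ L₂(7)` -/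
theorem iso_l27 : Nonempty (Matrix.ProjectiveSpecialLinearGroup (Fin 3) (ZMod 2) ≃*
    Matrix.ProjectiveSpecialLinearGroup (Fin 2) (ZMod 7)) := by
  have : Fact (Nat.Prime 7) := ⟨by norm_num⟩
  obtain ⟨e⟩ := Cfsg.Agent.S0255.result (F := ZMod 7) (K := ZMod 2) (ZMod.card 7) (ZMod.card 2)
  exact ⟨e.symm⟩

/-- **The row `PSU₃(q)`, `q ≥ 3`, residual class.** -/
theorem row_of {Q : Type*} [Group Q] [Finite Q] {A : Subgroup Q} {Γ : Subgroup (MulAut Q)}
    (h : EPT A Γ) {F : Type*} [Field F] [Fintype F] {q : ℕ} (m : Model Q (Cfsg.GU 3 F q ⊓ Cfsg.Geo.specialLinear (Fin 3) F))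
    (hF : Fintype.card F = q ^ 2) (hq : 3 ≤ q) (hres : Cfsg.Geo.InUnitaryResidualClass (m.hat A))
    (L7 : HasSoc A (Matrix.ProjectiveSpecialLinearGroup (Fin 3) (ZMod 2)) → 70915680 ≤ Nat.card Q → False)
    (L7t : HasSoc A (Matrix.ProjectiveSpecialLinearGroup (Fin 3) (ZMod 2)) → q = 3 → Nonempty (Q ≃* Cfsg.PSU 3 F 3) →
      Nat.card Q = 6048 → False)
    (A6 : HasSoc A (alternatingGroup (Fin 6)) → 70915680 ≤ Nat.card Q → False)
    (A6t : HasSoc A (alternatingGroup (Fin 6)) → q = 5 → Nonempty (Q ≃* Cfsg.PSU 3 F 5) → Nat.card Q = 126000 → False)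
    (A7t : HasSoc A (alternatingGroup (Fin 7)) → q = 5 → Nonempty (Q ≃* Cfsg.PSU 3 F 5) → Nat.card Q = 126000 →
      False) : False := by
  obtain ⟨m'⟩ := Cfsg.Agent.H117.EP.model_PSU (n := 3) hF le_rfl
  obtain ⟨e⟩ := model_unique m m'
  have hc : Nat.card Q = Nat.card (Cfsg.PSU 3 F q) := Nat.card_congr e.toEquiv
  obtain ⟨P, hP, hqp, h1⟩ := Cfsg.Agent.S5779.result q hF hq (m.hat A) (m.isMaximalIn h.max) hres
  have hs := hasSoc_of_core m hP
  rcases h1 with ⟨⟨f⟩, h5, h7⟩ | ⟨⟨f⟩, h7⟩ | ⟨⟨f⟩, rfl⟩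
  · have hs' := hs.congr f
    by_cases h3 : q = 3
    · subst h3
      exact L7t hs' rfl ⟨e⟩ (by rw [hc, card_psu3_three hF])
    · refine L7 hs' ?_
      rw [hc]
      apply card_psu3_ge hF
      by_contra hlt
      have : q < 11 := by omega
      interval_cases q <;> first | omega | exact absurd hqp (by norm_num)
  · have hs' := hs.congr f
    by_cases h3 : q = 5
    · subst h3
      exact A6t hs' rfl ⟨e⟩ (by rw [hc, card_psu3_five hF])
    · refine A6 hs' ?_
      rw [hc]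
      apply card_psu3_ge hF
      omega
  · exact A7t (hs.congr f) rfl ⟨e⟩ (by rw [hc, card_psu3_five hF])

/-- the large cases from index bounds: `|A : ...| ≤ 484` for `L₂(7)`, `A.index ≤ 40000` for `A₆` -/
theorem l7_of_index {Q : Type*} [Group Q] [Finite Q] {A : Subgroup Q}
    (hs : HasSoc A (Matrix.ProjectiveSpecialLinearGroup (Fin 3) (ZMod 2))) (hi : A.index ≤ 211000)
    (hQ : 70915680 ≤ Nat.card Q) : False := by
  have h1 := index_ge hs card_aut_l27
  omega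

theorem a6_of_index {Q : Type*} [Group Q] [Finite Q] {A : Subgroup Q}
    (hs : HasSoc A (alternatingGroup (Fin 6))) (hi : A.index ≤ 49000)
    (hQ : 70915680 ≤ Nat.card Q) : False := by
  have h1 := index_ge hs (c := 1440) Cfsg.Agent.H895.SLT.card_aut_a6.le
  omega

end Cfsg.Agent.H358.EP
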