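import Cfsg.Agent.H358.EP.U3R
import Cfsg.Agent.H417.EP.ASixSoc

/-!
# S3499, row `PSU₃(q)`: residual class, final form (helper358; `A₆` by helper417)
-/

set_option autoImplicit false
set_option linter.unusedSectionVars false

namespace Cfsg.Agent.H358.EP

open Cfsg.Agent.H284 Cfsg.Agent.H419.EP Cfsg.Agent.H417.EP

/-- **The row `PSU₃(q)`, `q ≥ 3`, residual class.** -/
theorem row_u3 {Q : Type*} [Group Q] [Finite Q] {A : Subgroup Q} {Γ : Subgroup (MulAut Q)}
    (h : EPT A Γ) {F : Type*} [Field F] [Fintype F] {q : ℕ} (m : Model Q (Cfsg.GU 3 F q ⊓ Cfsg.Geo.specialLinear (Fin 3) F))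
    (hF : Fintype.card F = q ^ 2) (hq : 3 ≤ q) (hres : Cfsg.Geo.InUnitaryResidualClass (m.hat A)) : False :=
  row_of3 h m hF hq hres (fun hs hQ => Cfsg.Agent.H417.EP.Six.false_of_le h hs (by omega)) Cfsg.Agent.H417.EP.Six.H4

end Cfsg.Agent.H358.EP
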