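import Cfsg.Agent.H358.EP.U3
import Cfsg.Agent.H689.EP.L27Row

/-!
# S3499, layer IV, the row `PSU₃(q)`: the socle `L₂(7)` is closed (helper358)
-/

set_option autoImplicit false

namespace Cfsg.Agent.H358.EP

open Cfsg Subgroup Cfsg.Agent.H284 Cfsg.Agent.H419.EP
open scoped MatrixGroups

/-- socle `L₂(7) = L₃(2)` -/
theorem l27_false {Q : Type*} [Group Q] [Finite Q] {A : Subgroup Q} {Γ : Subgroup (MulAut Q)} (h : EPT A Γ)
    (hs : HasSoc A (Matrix.ProjectiveSpecialLinearGroup (Fin 3) (ZMod 2)))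
    (hQ : 1693776 < Nat.card Q ∨ Nat.card Q = 6048) : False := by
  have : Fact (Nat.Prime 7) := ⟨by norm_num⟩
  obtain ⟨f⟩ := iso_l27
  obtain ⟨N, h1, h2, h3, ⟨e⟩⟩ := hs.congr f
  exact Cfsg.Agent.H689.EP.psl27_false h h1 h2 (F := ZMod 7) (ZMod.card 7) e h3 hQ

/-- **The row `PSU₃(q)`, `q ≥ 3`, residual class**, from the socles `A₆` and `A₇`. -/
theorem row_of2 {Q : Type*} [Group Q] [Finite Q] {A : Subgroup Q} {Γ : Subgroup (MulAut Q)}
    (h : EPT A Γ) {F : Type*} [Field F] [Fintype F] {q : ℕ} (m : Model Q (Cfsg.GU 3 F q ⊓ Cfsg.Geo.specialLinear (Fin 3) F))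
    (hF : Fintype.card F = q ^ 2) (hq : 3 ≤ q) (hres : Cfsg.Geo.InUnitaryResidualClass (m.hat A))
    (A6 : HasSoc A (alternatingGroup (Fin 6)) → 70915680 ≤ Nat.card Q → False)
    (A6t : HasSoc A (alternatingGroup (Fin 6)) → q = 5 → Nonempty (Q ≃* Cfsg.PSU 3 F 5) → Nat.card Q = 126000 → False)
    (A7t : HasSoc A (alternatingGroup (Fin 7)) → q = 5 → Nonempty (Q ≃* Cfsg.PSU 3 F 5) → Nat.card Q = 126000 →
      False) : False :=
  row_of h m hF hq hres (fun hs hQ => l27_false h hs (Or.inl (by omega))) (fun hs _ _ hQ => l27_false h hs (Or.inr hQ))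
    A6 A6t A7t

end Cfsg.Agent.H358.EP
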