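import Cfsg.Agent.H358.EP.U3L
import Cfsg.Agent.H358.EP.A6T
import Cfsg.Agent.H220.EP.ASevenU3

/-!
# S3499, row `PSU₃(q)`: residual class, from the two facts on `A₆` (helper358)
-/

set_option autoImplicit false
set_option linter.unusedSectionVars false

namespace Cfsg.Agent.H358.EP

open Cfsg.Agent.H284 Cfsg.Agent.H419.EP Cfsg.Agent.H417.EP

/-- **The row `PSU₃(q)`, `q ≥ 3`, residual class**, from the socle `A₆` with `|Q| ≥ 70915680`, and: admissible subgroups of `A₆` have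
at least 4 involutions. -/
theorem row_of3 {Q : Type*} [Group Q] [Finite Q] {A : Subgroup Q} {Γ : Subgroup (MulAut Q)}
    (h : EPT A Γ) {F : Type*} [Field F] [Fintype F] {q : ℕ} (m : Model Q (Cfsg.GU 3 F q ⊓ Cfsg.Geo.specialLinear (Fin 3) F))
    (hF : Fintype.card F = q ^ 2) (hq : 3 ≤ q) (hres : Cfsg.Geo.InUnitaryResidualClass (m.hat A))
    (A6 : HasSoc A (alternatingGroup (Fin 6)) → 70915680 ≤ Nat.card Q → False)
    (H4 : ∀ K : Subgroup (alternatingGroup (Fin 6)), Adm K → 4 ≤ Nat.card {l : alternatingGroup (Fin 6) // l ∈ K ∧ orderOf l = 2}) :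
    False := by
  refine row_of2 h m hF hq hres A6 ?_ ?_
  · rintro hs rfl ⟨e⟩ hQ
    exact a6_tight_of h hs hF e hQ H4
  · intro hs _ _ hQ
    exact Cfsg.Agent.H220.EP.seven_tight h hs hQ

end Cfsg.Agent.H358.EP
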